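import Cfsg.Agent.RootSub.McLaughlin.Sys

/-!
# A connected system of transvections is special linear or symplectic
-/

set_option autoImplicit false
set_option linter.unusedSectionVars false
set_option linter.unusedVariables false

namespace Cfsg.Lib.McLaughlin

variable {k : Type*} [Field k] {V : Type*} [AddCommGroup V] [Module k V] [FiniteDimensional k V]

/-- An additively closed system containing a connected one. -/
structure TFull (R₀ R : Set (V × Module.Dual k V)) : Prop where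
  sys : TSystem R₀
  sub : R₀ ⊆ R
  cl : TClosed R
  add_fst : ∀ a ∈ R, ∀ b ∈ R, a.2 = b.2 → a.1 + b.1 ≠ 0 → (a.1 + b.1, a.2) ∈ R
  add_snd : ∀ a ∈ R, ∀ b ∈ R, a.1 = b.1 → a.2 + b.2 ≠ 0 → (a.1, a.2 + b.2) ∈ R

/-- The axes at a centre. -/
def axesAt (R : Set (V × Module.Dual k V)) (v : V) : Submodule k (Module.Dual k V) :=
  Submodule.span k {φ | (v, φ) ∈ R}

/-- The symplectic transvections of an alternating form. -/
def formSystem (B : LinearMap.BilinForm k V) : Set (V × Module.Dual k V) :=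
  {a | a.1 ≠ 0 ∧ ∃ c : k, c ≠ 0 ∧ a.2 = c • B a.1}

/-- All transvections. -/
def allSystem (k V : Type*) [Field k] [AddCommGroup V] [Module k V] : Set (V × Module.Dual k V) :=
  {a | a.1 ≠ 0 ∧ a.2 ≠ 0 ∧ a.2 a.1 = 0}

variable {R₀ R : Set (V × Module.Dual k V)}

theorem TFull.mem_axesAt (h : TFull R₀ R) {v : V} {φ : Module.Dual k V} :
    φ ∈ axesAt R v ↔ φ = 0 ∨ (v, φ) ∈ R := by
  refine ⟨fun hφ => ?_, ?_⟩
  · induction hφ using Submodule.span_induction with
    | mem x hx => exact Or.inr hx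
    | zero => exact Or.inl rfl
    | add x y _ _ hx hy =>
      rcases hx with rfl | hx
      · simpa using hy
      rcases hy with rfl | hy
      · simpa using Or.inr hx
      by_cases h0 : x + y = 0
      · exact Or.inl h0
      · exact Or.inr (h.add_snd _ hx _ hy rfl h0)
    | smul c x _ hx =>
      by_cases hc : c = 0
      · exact Or.inl (by simp [hc])
      rcases hx with rfl | hx
      · exact Or.inl (by simp)
      · exact Or.inr (h.cl.smul_snd _ hx c hc)
  · rintro (rfl | hφ)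
    · exact Submodule.zero_mem _
    · exact Submodule.subset_span hφ

theorem TFull.perp_axesAt (h : TFull R₀ R) {v : V} {φ : Module.Dual k V} (hφ : φ ∈ axesAt R v) : φ v = 0 := by
  rcases h.mem_axesAt.mp hφ with rfl | hφ
  · rfl
  · exact h.cl.perp _ hφ

theorem TFull.axesAt_smul (h : TFull R₀ R) {v : V} {c : k} (hc : c ≠ 0) : axesAt R (c • v) = axesAt R v := by
  unfold axesAt
  congr 1
  ext φ
  refine ⟨fun hφ => ?_, fun hφ => h.cl.smul_fst _ hφ c hc⟩
  have := h.cl.smul_fst _ hφ c⁻¹ (inv_ne_zero hc)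
  simpa [smul_smul, hc] using this

theorem TFull.finrank_move_le (h : TFull R₀ R) {b : V × Module.Dual k V} (hb : b ∈ R) (v : V) (s : k) :
    Module.finrank k (axesAt R v) ≤ Module.finrank k (axesAt R (v + (s * b.2 v) • b.1)) := by
  let L : Module.Dual k V →ₗ[k] Module.Dual k V :=
    LinearMap.id - s • (((LinearMap.applyₗ b.1 : Module.Dual k V →ₗ[k] k)).smulRight b.2)
  have hL : ∀ φ, L φ = φ - (s * φ b.1) • b.2 := fun φ => by
    simp [L, smul_smul]
  have hinj : Function.Injective L := by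
    rw [injective_iff_map_eq_zero]
    intro φ hφ
    rw [hL, sub_eq_zero] at hφ
    have h1 := LinearMap.congr_fun hφ b.1
    rw [LinearMap.smul_apply, h.cl.perp b hb, smul_zero] at h1
    rw [hφ, h1, mul_zero, zero_smul]
  rw [(Submodule.equivMapOfInjective L hinj (axesAt R v)).finrank_eq]
  refine Submodule.finrank_mono ?_
  rintro _ ⟨φ, hφ, rfl⟩
  rw [h.mem_axesAt, hL]
  rcases h.mem_axesAt.mp hφ with rfl | hφ
  · exact Or.inl (by simp)
  · exact Or.inr (h.cl.conj_scaled hφ hb s)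

theorem TFull.finrank_move (h : TFull R₀ R) {b : V × Module.Dual k V} (hb : b ∈ R) (v : V) (s : k) :
    Module.finrank k (axesAt R (v + (s * b.2 v) • b.1)) = Module.finrank k (axesAt R v) := by
  refine le_antisymm ?_ (h.finrank_move_le hb v s)
  have := h.finrank_move_le hb (v + (s * b.2 v) • b.1) (-s)
  have e : v + (s * b.2 v) • b.1 + (-s * b.2 (v + (s * b.2 v) • b.1)) • b.1 = v := by
    rw [map_add, map_smul, h.cl.perp b hb, smul_zero, add_zero]; module
  rwa [e] at this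

theorem TFull.centre (h : TFull R₀ R) (h2 : (2 : k) ≠ 0) {v : V} (hv : v ≠ 0) : ∃ φ, (v, φ) ∈ R₀ :=
  (h.sys.all_centres h2 v).resolve_left hv

theorem TFull.finrank_axesAt (h : TFull R₀ R) (h2 : (2 : k) ≠ 0) {v u : V} (hv : v ≠ 0) (hu : u ≠ 0) :
    Module.finrank k (axesAt R v) = Module.finrank k (axesAt R u) := by
  obtain ⟨φ, hφ⟩ := h.centre h2 hv
  obtain ⟨μ, hμ⟩ := h.centre h2 hu
  suffices ∀ b, Relation.ReflTransGen (TStep R₀) (v, φ) b →
      b ∈ R₀ ∧ Module.finrank k (axesAt R b.1) = Module.finrank k (axesAt R v) from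
    (this _ (h.sys.connected _ hφ _ hμ)).2.symm
  intro b hb
  induction hb with
  | refl => exact ⟨hφ, rfl⟩
  | @tail a b _ hstep ih =>
    obtain ⟨ha, hrk⟩ := ih
    obtain ⟨hbR, hadj⟩ := hstep
    refine ⟨hbR, ?_⟩
    have h1 := h.finrank_move (h.sub hbR) a.1 (b.2 a.1)⁻¹
    rw [inv_mul_cancel₀ hadj.2, one_smul] at h1
    have h2' := h.finrank_move (h.sub ha) (a.1 + b.1) (-(a.2 b.1)⁻¹)
    rw [map_add, h.cl.perp a (h.sub ha), zero_add, neg_mul, inv_mul_cancel₀ hadj.1,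
      show a.1 + b.1 + (-1 : k) • a.1 = b.1 by module, h1, hrk] at h2'
    exact h2'

/-- Orthogonality of centres is symmetric. -/
theorem TFull.orth_symm (h : TFull R₀ R) (h2 : (2 : k) ≠ 0) {v u : V} (hv : v ≠ 0) (hu : u ≠ 0)
    (hvu : ∀ φ ∈ axesAt R v, φ u = 0) : ∀ μ ∈ axesAt R u, μ v = 0 := by
  intro μ hμ
  by_contra hne
  have hμ' : (u, μ) ∈ R := (h.mem_axesAt.mp hμ).resolve_left (fun h0 => hne (by simp [h0]))
  have hle : axesAt R v ≤ axesAt R u := by
    intro φ hφ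
    rcases h.mem_axesAt.mp hφ with rfl | hφ'
    · exact Submodule.zero_mem _
    have h1 := h.cl.conj _ hφ' _ hμ'
    simp only [tconj, hvu φ hφ, zero_smul, sub_zero] at h1
    have h3 := h.add_fst _ h1 _ (h.cl.smul_fst _ hφ' (-1) (neg_ne_zero.mpr one_ne_zero)) rfl
      (by simp [hne, hu])
    simp only [show v + μ v • u + (-1 : k) • v = μ v • u by module] at h3
    have h4 := h.cl.smul_fst _ h3 (μ v)⁻¹ (inv_ne_zero hne)
    simp only [smul_smul, inv_mul_cancel₀ hne, one_smul] at h4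
    exact h.mem_axesAt.mpr (Or.inr h4)
  have heq := Submodule.eq_of_le_of_finrank_eq hle (h.finrank_axesAt h2 hv hu)
  exact hne (h.perp_axesAt (heq ▸ hμ))

theorem TFull.share_axis (h : TFull R₀ R) (h2 : (2 : k) ≠ 0) {v w : V} (hv : v ≠ 0) (hw : w ≠ 0)
    {φ : Module.Dual k V} (hφ : φ ∈ axesAt R v) (hφw : φ w = 0) (hvw : ∃ χ ∈ axesAt R w, χ v ≠ 0) :
    φ ∈ axesAt R w := by
  obtain ⟨χ, hχ, hχv⟩ := hvw
  rcases h.mem_axesAt.mp hφ with rfl | hφ'
  · exact Submodule.zero_mem _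
  have hχ' : (w, χ) ∈ R := (h.mem_axesAt.mp hχ).resolve_left (fun h0 => hχv (by simp [h0]))
  have h1 := h.cl.conj _ hφ' _ hχ'
  simp only [tconj, hφw, zero_smul, sub_zero] at h1
  have h3 := h.add_fst _ h1 _ (h.cl.smul_fst _ hφ' (-1) (neg_ne_zero.mpr one_ne_zero)) rfl
    (by simp [hχv, hw])
  simp only [show v + χ v • w + (-1 : k) • v = χ v • w by module] at h3
  have h4 := h.cl.smul_fst _ h3 (χ v)⁻¹ (inv_ne_zero hχv)
  simp only [smul_smul, inv_mul_cancel₀ hχv, one_smul] at h4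
  exact h.mem_axesAt.mpr (Or.inr h4)

theorem exists_apply_ne {φ : Module.Dual k V} (h : φ ≠ 0) : ∃ x, φ x ≠ 0 := by
  by_contra hh; push Not at hh; exact h (LinearMap.ext hh)

/-- Some centre with two independent axes: all transvections occur. -/
theorem TFull.all_case (h : TFull R₀ R) (h2 : (2 : k) ≠ 0)
    (hbig : ∀ v : V, v ≠ 0 → 2 ≤ Module.finrank k (axesAt R v)) : R = allSystem k V := by
  refine Set.Subset.antisymm (fun a ha => ⟨h.cl.fst_ne a ha, h.cl.snd_ne a ha, h.cl.perp a ha⟩) ?_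
  rintro ⟨v, ψ⟩ ⟨hv, hψ, hψv⟩
  -- orthogonal centres have the same axes
  have horth : ∀ {v u : V}, v ≠ 0 → u ≠ 0 → (∀ φ ∈ axesAt R v, φ u = 0) → axesAt R v = axesAt R u := by
    intro v u hv hu hvu
    refine Submodule.eq_of_le_of_finrank_eq (fun φ hφ => ?_) (h.finrank_axesAt h2 hv hu)
    by_cases hφ0 : φ = 0
    · rw [hφ0]; exact Submodule.zero_mem _
    obtain ⟨ψ₁, hψ₁, hψ₁'⟩ : ∃ ψ₁ ∈ axesAt R v, ψ₁ ∉ Submodule.span k {φ} := by
      by_contra hh; push Not at hh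
      have := (Submodule.finrank_mono (fun x hx => hh x hx)).trans' (hbig v hv)
      rw [finrank_span_singleton hφ0] at this
      omega
    obtain ⟨μ₁, hμ₁, hμ₁'⟩ : ∃ μ₁ ∈ axesAt R u, μ₁ ∉ Submodule.span k {φ} := by
      by_contra hh; push Not at hh
      have := (Submodule.finrank_mono (fun x hx => hh x hx)).trans' (hbig u hu)
      rw [finrank_span_singleton hφ0] at this
      omega
    have hker : ∀ χ : Module.Dual k V, χ ∉ Submodule.span k {φ} → ∃ x, φ x = 0 ∧ χ x ≠ 0 := by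
      intro χ hχ
      by_contra hh; push Not at hh
      obtain ⟨x₀, hx₀⟩ := exists_apply_ne hφ0
      refine hχ (Submodule.mem_span_singleton.mpr ⟨χ x₀ / φ x₀, LinearMap.ext fun x => ?_⟩)
      have := hh (x - (φ x / φ x₀) • x₀) (by simp [hx₀])
      rw [map_sub, map_smul, sub_eq_zero, smul_eq_mul] at this
      rw [LinearMap.smul_apply, smul_eq_mul, this]; ring
    obtain ⟨x, hx, hx'⟩ := hker _ hψ₁'
    obtain ⟨y, hy, hy'⟩ := hker _ hμ₁'
    obtain ⟨w, hw, hwv, hwu⟩ : ∃ w, φ w = 0 ∧ ψ₁ w ≠ 0 ∧ μ₁ w ≠ 0 := by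
      by_cases a : μ₁ x ≠ 0
      · exact ⟨x, hx, hx', a⟩
      by_cases b : ψ₁ y ≠ 0
      · exact ⟨y, hy, b, hy'⟩
      push Not at a b
      exact ⟨x + y, by simp [hx, hy], by simp [b, hx'], by simp [a, hy']⟩
    have hw0 : w ≠ 0 := fun h0 => hwv (by simp [h0])
    have hsym : ∀ {v : V} {ψ : Module.Dual k V}, v ≠ 0 → ψ ∈ axesAt R v → ψ w ≠ 0 →
        ∃ χ ∈ axesAt R w, χ v ≠ 0 := by
      intro v ψ hv hψ hψw
      by_contra hh; push Not at hh
      exact hψw (h.orth_symm h2 hw0 hv hh ψ hψ)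
    have hφw := h.share_axis h2 hv hw0 hφ hw (hsym hv hψ₁ hwv)
    exact h.share_axis h2 hw0 hu hφw (hvu φ hφ) ⟨μ₁, hμ₁, hwu⟩
  -- a second centre in general position
  obtain ⟨φ₀, hφ₀, hφ₀0⟩ : ∃ φ₀ ∈ axesAt R v, φ₀ ≠ 0 := by
    by_contra hh; push Not at hh
    have : axesAt R v = ⊥ := (Submodule.eq_bot_iff _).mpr hh
    have h' := hbig v hv
    rw [this, finrank_bot] at h'
    omega
  obtain ⟨w, hw⟩ := exists_apply_ne hφ₀0
  have hw0 : w ≠ 0 := fun h0 => hw (by simp [h0])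
  obtain ⟨χ, hχ, hχv⟩ : ∃ χ ∈ axesAt R w, χ v ≠ 0 := by
    by_contra hh; push Not at hh
    exact hw (h.orth_symm h2 hw0 hv hh φ₀ hφ₀)
  have hsup : axesAt R w ≤ axesAt R v ⊔ Submodule.span k {χ} := by
    intro μ hμ
    have e : μ = (μ - (μ v / χ v) • χ) + (μ v / χ v) • χ := by simp
    rw [e]
    refine Submodule.add_mem_sup ?_ (Submodule.smul_mem _ _ (Submodule.mem_span_singleton_self χ))
    exact h.share_axis h2 hw0 hv (Submodule.sub_mem _ hμ (Submodule.smul_mem _ _ hχ)) (by simp [hχv]) ⟨φ₀, hφ₀, hw⟩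
  have htop : axesAt R v ⊔ axesAt R w = ⊤ := by
    suffices h0 : (axesAt R v ⊔ axesAt R w).dualCoannihilator = ⊥ by
      rw [← Subspace.dualCoannihilator_dualAnnihilator_eq (W := axesAt R v ⊔ axesAt R w), h0,
        Submodule.dualAnnihilator_bot]
    rw [Submodule.eq_bot_iff]
    intro x hx
    rw [Submodule.mem_dualCoannihilator] at hx
    by_contra hx0
    have e1 := horth hv hx0 fun φ hφ => hx φ (Submodule.mem_sup_left hφ)
    have e2 := horth hw0 hx0 fun φ hφ => hx φ (Submodule.mem_sup_right hφ)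
    exact hw (h.perp_axesAt (e2.symm ▸ e1 ▸ hφ₀))
  have hψmem : ψ ∈ axesAt R v ⊔ Submodule.span k {χ} :=
    sup_le le_sup_left hsup (htop ▸ Submodule.mem_top : ψ ∈ axesAt R v ⊔ axesAt R w)
  obtain ⟨a, ha, b, hb, rfl⟩ := Submodule.mem_sup.mp hψmem
  obtain ⟨c, rfl⟩ := Submodule.mem_span_singleton.mp hb
  simp [h.perp_axesAt ha, hχv] at hψv
  subst hψv
  simp at hψ ⊢
  exact (h.mem_axesAt.mp ha).resolve_left hψ

theorem proportional_of_zeros {φ a b : Module.Dual k V} (hφ : φ ≠ 0) (ha : a ≠ 0)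
    (h : ∀ w, φ w ≠ 0 → (a w = 0 ↔ b w = 0)) : ∃ c : k, b = c • a := by
  obtain ⟨w1, hw1, haw1⟩ : ∃ w1, φ w1 ≠ 0 ∧ a w1 ≠ 0 := by
    obtain ⟨x, hx⟩ := exists_apply_ne hφ
    obtain ⟨y, hy⟩ := exists_apply_ne ha
    by_cases h1 : a x ≠ 0
    · exact ⟨x, hx, h1⟩
    by_cases h3 : φ y ≠ 0
    · exact ⟨y, h3, hy⟩
    push Not at h1 h3
    exact ⟨x + y, by simp [h3, hx], by simp [h1, hy]⟩
  refine ⟨b w1 / a w1, ?_⟩
  have hker : ∀ y, a y = 0 → b y = 0 := by
    intro y hy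
    by_cases hφy : φ y = 0
    · by_contra hby
      have := (h (w1 + (-(b w1) / b y) • y) (by simp [hφy, hw1])).mpr (by simp [hby])
      simp [hy, haw1] at this
    · exact (h y hφy).mp hy
  refine LinearMap.ext fun x => ?_
  have := hker (x - (a x / a w1) • w1) (by simp [haw1])
  rw [map_sub, map_smul, sub_eq_zero, smul_eq_mul] at this
  rw [LinearMap.smul_apply, smul_eq_mul, this]; ring

/-- One axis at every centre: an alternating form is preserved. -/
theorem TFull.form_case (h : TFull R₀ R) (h2 : (2 : k) ≠ 0) [Nontrivial V]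
    (hone : ∀ v : V, v ≠ 0 → Module.finrank k (axesAt R v) ≤ 1) :
    ∃ B : LinearMap.BilinForm k V, B.IsAlt ∧ B.Nondegenerate ∧ R = formSystem B := by
  have hex : ∀ v : V, v ≠ 0 → ∃ φ, (v, φ) ∈ R := fun v hv => (h.centre h2 hv).imp fun φ hφ => h.sub hφ
  choose α hα using hex
  have hprop : ∀ {v : V} (hv : v ≠ 0) {φ : Module.Dual k V}, φ ∈ axesAt R v → ∃ c : k, φ = c • α v hv := by
    intro v hv φ hφ
    have hle : Submodule.span k {α v hv} ≤ axesAt R v :=
      (Submodule.span_singleton_le_iff_mem _ _).mpr (h.mem_axesAt.mpr (Or.inr (hα v hv)))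
    have hne : α v hv ≠ 0 := h.cl.snd_ne _ (hα v hv)
    have heq := Submodule.eq_of_le_of_finrank_le hle (by rw [finrank_span_singleton hne]; exact hone v hv)
    rw [← heq] at hφ
    obtain ⟨c, hc⟩ := Submodule.mem_span_singleton.mp hφ
    exact ⟨c, hc.symm⟩
  have hsym : ∀ {v u : V} (hv : v ≠ 0) (hu : u ≠ 0), α v hv u = 0 → α u hu v = 0 := by
    intro v u hv hu h0
    refine h.orth_symm h2 hv hu (fun φ hφ => ?_) _ (h.mem_axesAt.mpr (Or.inr (hα u hu)))
    obtain ⟨c, rfl⟩ := hprop hv hφ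
    simp [h0]
  obtain ⟨v₀, hv₀⟩ := exists_ne (0 : V)
  set φ₀ := α v₀ hv₀ with hφ₀
  have hφ₀0 : φ₀ ≠ 0 := h.cl.snd_ne _ (hα v₀ hv₀)
  have hne0 : ∀ {u : V}, φ₀ u ≠ 0 → u ≠ 0 := fun hu h0 => hu (by simp [h0])
  have hv0u : ∀ {u : V} (hu : φ₀ u ≠ 0), α u (hne0 hu) v₀ ≠ 0 := fun hu h0 => hu (hsym (hne0 hu) hv₀ h0)
  -- the normalised axes
  classical
  let s : V → Module.Dual k V := fun u =>
    if hu : φ₀ u ≠ 0 then (-(φ₀ u) / α u (hne0 hu) v₀) • α u (hne0 hu) else 0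
  have hs : ∀ {u : V}, φ₀ u ≠ 0 → (u, s u) ∈ R ∧ s u v₀ = -(φ₀ u) := by
    intro u hu
    simp only [s, dif_pos hu]
    exact ⟨h.cl.smul_snd _ (hα u _) _ (div_ne_zero (neg_ne_zero.mpr hu) (hv0u hu)),
      by rw [LinearMap.smul_apply, smul_eq_mul, div_mul_cancel₀ _ (hv0u hu)]⟩
  have hzero : ∀ {u w : V} {μ χ : Module.Dual k V}, (u, μ) ∈ R → (w, χ) ∈ R → μ w = 0 → χ u = 0 := by
    intro u w μ χ hu hw h0
    refine h.orth_symm h2 (h.cl.fst_ne _ hu) (h.cl.fst_ne _ hw) (fun φ hφ => ?_) χ (h.mem_axesAt.mpr (Or.inr hw))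
    have hu0 := h.cl.fst_ne _ hu
    obtain ⟨c, rfl⟩ := hprop hu0 hφ
    obtain ⟨d, hd⟩ := hprop hu0 (h.mem_axesAt.mpr (Or.inr hu))
    have hd0 : d ≠ 0 := fun hh => h.cl.snd_ne _ hu (by simp [hd, hh])
    have : α u hu0 w = 0 := by simpa [hd, hd0] using h0
    simp [this]
  have hskew : ∀ {u w : V}, φ₀ u ≠ 0 → φ₀ w ≠ 0 → s u w = - s w u := by
    intro u w hu hw
    obtain ⟨huR, huv⟩ := hs hu
    obtain ⟨hwR, hwv⟩ := hs hw
    set c := -(s u w) / φ₀ w with hc
    have h1 := h.cl.conj_scaled huR (hα v₀ hv₀) (c / φ₀ u)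
    simp only [← hφ₀, huv, div_mul_cancel₀ _ hu, mul_neg, neg_smul, sub_neg_eq_add] at h1
    have h3 : s w (u + c • v₀) = 0 := hzero h1 hwR (by
      simp [hc, div_mul_cancel₀ _ hw])
    rw [map_add, map_smul, hwv, smul_eq_mul, hc, mul_neg, div_mul_cancel₀ _ hw] at h3
    linear_combination h3
  -- a basis off the hyperplane
  have hspan : Submodule.span k {u | φ₀ u ≠ 0} = ⊤ := by
    rw [eq_top_iff]
    intro z _
    obtain ⟨w, hw⟩ := exists_apply_ne hφ₀0
    by_cases hz : φ₀ z = 0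
    · rw [show z = (z + w) - w by abel]
      exact Submodule.sub_mem _ (Submodule.subset_span (by simp [hz, hw])) (Submodule.subset_span hw)
    · exact Submodule.subset_span hz
  obtain ⟨T, hT, hTspan, hTli⟩ := exists_linearIndependent k {u : V | φ₀ u ≠ 0}
  let b : Module.Basis T k V := Module.Basis.mk hTli (by rw [Subtype.range_coe, hTspan, hspan])
  let f : V →ₗ[k] Module.Dual k V := b.constr k fun t => s t
  have hf : ∀ t : T, f t = s t := fun t => by
    have e : b t = t := Module.Basis.mk_apply _ _ _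
    conv_lhs => rw [← e]
    exact b.constr_basis k _ t
  have hf1 : ∀ {w : V}, φ₀ w ≠ 0 → ∀ u, f u w = - s w u := by
    intro w hw u
    have : (LinearMap.applyₗ w).comp f = - s w := b.ext fun t => by
      have e : b t = t := Module.Basis.mk_apply _ _ _
      simp [e, hf, hskew (hT t.2) hw]
    simpa using LinearMap.congr_fun this u
  have hdet : ∀ {g g' : Module.Dual k V}, (∀ w, φ₀ w ≠ 0 → g w = g' w) → g = g' := fun hg =>
    LinearMap.ext_on hspan fun w hw => hg w hw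
  have hf2 : ∀ {u : V}, φ₀ u ≠ 0 → f u = s u := fun hu => hdet fun w hw => by
    rw [hf1 hw, hskew hu hw]
  let B : LinearMap.BilinForm k V := f
  have halt : ∀ x, f x x = 0 := by
    intro x
    by_cases hx : φ₀ x = 0
    · obtain ⟨w, hw⟩ := exists_apply_ne hφ₀0
      have hxw : φ₀ (x + w) ≠ 0 := by simp [hx, hw]
      have e1 : f (x + w) (x + w) = 0 := by rw [hf2 hxw]; exact h.cl.perp _ (hs hxw).1
      have e2 : f w w = 0 := by rw [hf2 hw]; exact h.cl.perp _ (hs hw).1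
      have e3 : f x w = - f w x := by rw [hf1 hw, hf2 hw]
      simp [map_add, e2, e3] at e1
      exact e1
    · rw [hf2 hx]; exact h.cl.perp _ (hs hx).1
  have hA : B.IsAlt := halt
  have hmem : ∀ z, ∀ hz : z ≠ 0, ∃ c : k, c ≠ 0 ∧ f z = c • α z hz := by
    intro z hz
    obtain ⟨c, hc⟩ := proportional_of_zeros (a := α z hz) (b := f z) hφ₀0 (h.cl.snd_ne _ (hα z hz)) (fun w hw => by
      rw [hf1 hw, neg_eq_zero]
      exact ⟨fun h0 => hzero (hα z hz) (hs hw).1 h0, fun h0 => hzero (hs hw).1 (hα z hz) h0⟩)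
    refine ⟨c, fun hc0 => ?_, hc⟩
    have hz0 : ∀ w, φ₀ w ≠ 0 → α z hz w = 0 := fun w hw => hzero (hs hw).1 (hα z hz) (by
      have := hf1 hw z
      rw [hc, hc0, zero_smul, LinearMap.zero_apply] at this
      simpa using this.symm)
    exact h.cl.snd_ne _ (hα z hz) (hdet fun w hw => by simpa using hz0 w hw)
  refine ⟨B, hA, ?_, Set.Subset.antisymm ?_ ?_⟩
  · have hl : LinearMap.SeparatingLeft B := fun z hz => by
      by_contra hz0
      obtain ⟨c, hc, he⟩ := hmem z hz0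
      exact h.cl.snd_ne _ (hα z hz0) (LinearMap.ext fun x => by
        have h0 : f z x = 0 := hz x
        simpa [he, hc] using h0)
    exact ⟨hl, fun z hz => hl z fun x => by
      have := LinearMap.IsAlt.neg hA x z
      have hx : B x z = 0 := hz x
      rw [hx, neg_zero] at this
      exact this.symm⟩
  · rintro ⟨v, φ⟩ hvR
    have hv : v ≠ 0 := h.cl.fst_ne _ hvR
    obtain ⟨c, hc, he⟩ := hmem v hv
    obtain ⟨d, hd⟩ := hprop hv (h.mem_axesAt.mpr (Or.inr hvR))
    refine ⟨hv, d / c, div_ne_zero (fun hd0 => h.cl.snd_ne _ hvR (by simp [hd, hd0])) hc, ?_⟩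
    change φ = (d / c) • f v
    rw [he, smul_smul, div_mul_cancel₀ _ hc, hd]
  · rintro ⟨v, φ⟩ ⟨hv, d, hd, hdφ⟩
    obtain ⟨c, hc, he⟩ := hmem v hv
    change φ = d • f v at hdφ
    rw [hdφ, he, smul_smul]
    exact h.cl.smul_snd _ (hα v hv) _ (mul_ne_zero hd hc)

/-- The dichotomy. -/
theorem TFull.classify (h : TFull R₀ R) (h2 : (2 : k) ≠ 0) [Nontrivial V] :
    R = allSystem k V ∨ ∃ B : LinearMap.BilinForm k V, B.IsAlt ∧ B.Nondegenerate ∧ R = formSystem B := by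
  obtain ⟨v₀, hv₀⟩ := exists_ne (0 : V)
  by_cases hd : 2 ≤ Module.finrank k (axesAt R v₀)
  · exact Or.inl (h.all_case h2 fun v hv => h.finrank_axesAt h2 hv hv₀ ▸ hd)
  · exact Or.inr (h.form_case h2 fun v hv => by rw [h.finrank_axesAt h2 hv hv₀]; omega)

end Cfsg.Lib.McLaughlin
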