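import Cfsg.Agent.RootSub.McLaughlin.Lift

/-!
# The action of a transvection group on its two summands
-/

set_option autoImplicit false
set_option linter.unusedSectionVars false
set_option linter.unusedVariables false

namespace Cfsg.Lib.McLaughlin

open Submodule

variable {p : ℕ} [Fact p.Prime] {V : Type*} [AddCommGroup V] [Module (ZMod p) V] [FiniteDimensional (ZMod p) V]
variable {G : Type*} [Group G] {E : G →* Module.End (ZMod p) V} {R : Set (V × Module.Dual (ZMod p) V)}

/-- The contragredient action. -/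
def dualAct (E : G →* Module.End (ZMod p) V) : G →* Module.End (ZMod p) (Module.Dual (ZMod p) V) where
  toFun g := (E g⁻¹).dualMap
  map_one' := LinearMap.ext fun ψ => LinearMap.ext fun x => by simp
  map_mul' g h := LinearMap.ext fun ψ => LinearMap.ext fun x => by
    simp [mul_inv_rev, Module.End.mul_apply]

/-- The dual system. -/
def dualSystem (R : Set (V × Module.Dual (ZMod p) V)) :
    Set (Module.Dual (ZMod p) V × Module.Dual (ZMod p) (Module.Dual (ZMod p) V)) :=
  (fun a => (a.2, Module.Dual.eval (ZMod p) V a.1)) '' R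

theorem tlin_dual (a : V × Module.Dual (ZMod p) V) :
    tlin (a.2, Module.Dual.eval (ZMod p) V a.1) = (tlin a).dualMap :=
  LinearMap.ext fun ψ => LinearMap.ext fun x => by simp [tlin_apply]; ring

theorem eval_inj {v w : V} (h : Module.Dual.eval (ZMod p) V v = Module.Dual.eval (ZMod p) V w) : v = w :=
  Module.eval_apply_injective (ZMod p) h

theorem TGroup.dual (hG : TGroup E R) : TGroup (dualAct E) (dualSystem R) := by
  refine ⟨fun g h he => ?_, ⟨?_, ?_, ?_, ?_, ?_, ?_⟩, ?_, ?_, ?_, ?_, ?_, ?_, hG.core, hG.nonempty.image _⟩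
  · refine inv_injective (hG.inj (LinearMap.ext fun x => ?_))
    exact eval_inj (LinearMap.ext fun ψ => LinearMap.congr_fun (LinearMap.congr_fun he ψ) x)
  · rintro _ ⟨a, ha, rfl⟩
    exact hG.cl.snd_ne a ha
  · rintro _ ⟨a, ha, rfl⟩ h0
    exact hG.cl.fst_ne a ha (eval_inj (h0.trans (map_zero _).symm))
  · rintro _ ⟨a, ha, rfl⟩
    exact hG.cl.perp a ha
  · rintro _ ⟨a, ha, rfl⟩ c hc
    exact ⟨_, hG.cl.smul_snd a ha c hc, rfl⟩
  · rintro _ ⟨a, ha, rfl⟩ c hc
    exact ⟨_, hG.cl.smul_fst a ha c hc, by simp⟩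
  · rintro _ ⟨a, ha, rfl⟩ _ ⟨b, hb, rfl⟩
    refine ⟨_, hG.cl.conj a ha _ (hG.cl.smul_snd b hb (-1) (neg_ne_zero.mpr one_ne_zero)), ?_⟩
    simp [tconj, sub_eq_add_neg]
    module
  · rintro _ ⟨a, ha, rfl⟩ _ ⟨b, hb, rfl⟩ he hne
    exact ⟨_, hG.add_snd a ha b hb (eval_inj he) hne, rfl⟩
  · rintro _ ⟨a, ha, rfl⟩ _ ⟨b, hb, rfl⟩ he hne
    exact ⟨_, hG.add_fst a ha b hb he (fun h0 => hne (by rw [← map_add, h0, map_zero])), by simp⟩
  · rintro _ ⟨a, ha, rfl⟩ _ ⟨b, hb, rfl⟩
    refine Relation.ReflTransGen.lift (fun a => (a.2, Module.Dual.eval (ZMod p) V a.1)) ?_ _ _ (hG.connected a ha b hb)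
    rintro x y ⟨hy, h1, h2⟩
    exact ⟨⟨y, hy, rfl⟩, h2, h1⟩
  · rintro _ ⟨a, ha, rfl⟩
    obtain ⟨b, hb, h1, h2⟩ := hG.partner a ha
    exact ⟨_, ⟨b, hb, rfl⟩, h2, h1⟩
  · rintro _ ⟨a, ha, rfl⟩
    obtain ⟨g, hg⟩ := hG.real a ha
    exact ⟨g⁻¹, by rw [tlin_dual, ← hg]; simp [dualAct]⟩
  · rw [eq_top_iff, ← hG.gen, ← Subgroup.closure_inv {g | ∃ a ∈ R, E g = tlin a}]
    refine Subgroup.closure_mono ?_
    rintro g hg
    obtain ⟨a, ha, he⟩ := Set.mem_inv.mp hg
    exact ⟨_, ⟨a, ha, rfl⟩, by rw [tlin_dual, ← he]; rfl⟩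

/-- The span of the centres and the meet of the axes are complements. -/
theorem TGroup.isCompl (hG : TGroup E R) (hp : p ≠ 2) : IsCompl (centreSpan R) (axisMeet R) := by
  have h1 := hG.inf_eq_bot hp
  have h2 := hG.dual.inf_eq_bot hp
  have hA : axisSpan R ⊓ (centreSpan R).dualAnnihilator = ⊥ := by
    rw [eq_bot_iff, ← h2]
    refine inf_le_inf ?_ ?_
    · refine span_mono ?_
      rintro φ ⟨v, hv⟩
      exact ⟨_, ⟨(v, φ), hv, rfl⟩⟩
    · intro ψ hψ
      rw [mem_axisMeet]
      rintro _ ⟨a, ha, rfl⟩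
      exact (Submodule.mem_dualAnnihilator ψ).mp hψ a.1 (mem_centreSpan ha)
  have e1 := Submodule.finrank_sup_add_finrank_inf_eq (axisSpan R) (centreSpan R).dualAnnihilator
  rw [hA, finrank_bot, add_zero] at e1
  have e2 := Submodule.finrank_sup_add_finrank_inf_eq (centreSpan R) (axisMeet R)
  rw [h1, finrank_bot, add_zero] at e2
  have e3 := Subspace.finrank_add_finrank_dualAnnihilator_eq (centreSpan R)
  have e4 : Module.finrank (ZMod p) (axisSpan R) + Module.finrank (ZMod p) (axisMeet R) =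
      Module.finrank (ZMod p) V := Subspace.finrank_add_finrank_dualCoannihilator_eq (axisSpan R)
  have e5 := (axisSpan R ⊔ (centreSpan R).dualAnnihilator).finrank_le
  rw [Subspace.dual_finrank_eq] at e5
  refine ⟨disjoint_iff.mpr h1, codisjoint_iff.mpr (Submodule.eq_top_of_finrank_eq ?_)⟩
  have e6 := (centreSpan R ⊔ axisMeet R).finrank_le
  omega

/-- On the span of the centres the group is special linear or symplectic. -/
theorem TGroup.structure (hG : TGroup E R) (hp : p ≠ 2) :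
    (∀ (u : centreSpan R) (ψ : Module.Dual (ZMod p) (centreSpan R)), ψ u = 0 →
        ∃ g, ∀ x : centreSpan R, E g x = x + ψ x • (u : V)) ∨
    ∃ B : LinearMap.BilinForm (ZMod p) (centreSpan R), B.IsAlt ∧ B.Nondegenerate ∧
      (∀ g (x y : centreSpan R), B ⟨E g x, hG.map_centreSpan g x x.2⟩ ⟨E g y, hG.map_centreSpan g y y.2⟩ = B x y) ∧
      ∀ (u : centreSpan R) (c : ZMod p), ∃ g, ∀ x : centreSpan R, E g x = x + (c * B x u) • (u : V) := by
  have h2 := two_ne_zero_zmod hp
  have hF := hG.full hp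
  haveI := hG.nontrivial_quot
  have hrad : centreRad R = ⊥ := by
    rw [eq_bot_iff]
    intro x hx
    have : (x : V) ∈ centreSpan R ⊓ axisMeet R := ⟨x.2, hx⟩
    rw [hG.inf_eq_bot hp, Submodule.mem_bot] at this
    exact (Submodule.mem_bot _).mpr (Subtype.ext this)
  let e : (centreSpan R ⧸ centreRad R) ≃ₗ[ZMod p] centreSpan R := Submodule.quotEquivOfEqBot _ hrad
  have he : ∀ x : centreSpan R, e (Submodule.Quotient.mk x) = x := fun x => rfl
  have he' : ∀ x : centreSpan R, e.symm x = Submodule.Quotient.mk x := fun x => e.symm_apply_eq.mpr (he x).symm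
  have back : ∀ (g : G) (v : centreSpan R) (ψ : Module.Dual (ZMod p) (centreSpan R)),
      hG.rho g = tlin (Submodule.Quotient.mk v, ψ ∘ₗ e.toLinearMap) →
      ∀ x : centreSpan R, E g x = x + ψ x • (v : V) := by
    intro g v ψ hg x
    have h := congrArg (fun f => e (f (Submodule.Quotient.mk x))) hg
    simp only [hG.rho_mk, tlin_apply, map_add, map_smul, he, LinearMap.comp_apply, LinearEquiv.coe_coe] at h
    simpa using congrArg Subtype.val h
  have hne : ∀ v : centreSpan R, v ≠ 0 → (Submodule.Quotient.mk v : centreSpan R ⧸ centreRad R) ≠ 0 :=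
    fun v hv h0 => hv (by rw [← he v, h0, map_zero])
  rcases hF.classify h2 with hall | ⟨B, hA, hB, hBR⟩
  · refine Or.inl fun u ψ hψu => ?_
    by_cases hu : u = 0
    · exact ⟨1, fun x => by simp [hu]⟩
    by_cases hψ : ψ = 0
    · exact ⟨1, fun x => by simp [hψ]⟩
    have hψ' : ψ ∘ₗ e.toLinearMap ≠ 0 := fun h0 => hψ (LinearMap.ext fun x => by
      have := LinearMap.congr_fun h0 (e.symm x); simpa using this)
    have hperp : (ψ ∘ₗ e.toLinearMap) (Submodule.Quotient.mk u) = 0 := hψu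
    obtain ⟨-, -, -, g, hg⟩ : ((Submodule.Quotient.mk u, ψ ∘ₗ e.toLinearMap) : _ × _) ∈ hG.actSystem := by
      rw [hall]; exact ⟨hne u hu, hψ', hperp⟩
    exact ⟨g, back g u ψ hg⟩
  · let B' : LinearMap.BilinForm (ZMod p) (centreSpan R) :=
      LinearMap.compl₁₂ B e.symm.toLinearMap e.symm.toLinearMap
    have hB'apply : ∀ x y, B' x y = B (Submodule.Quotient.mk x) (Submodule.Quotient.mk y) := fun x y => by
      simp [B', he']
    have hinv : ∀ g u w, B (hG.rho g u) (hG.rho g w) = B u w := by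
      intro g
      induction g using hG.induct with
      | h1 => intro u w; simp
      | hmul g h ihg ihh =>
        intro u w
        rw [map_mul, Module.End.mul_apply, Module.End.mul_apply, ihg, ihh]
      | hgen g a ha hg =>
        intro u w
        obtain ⟨b, hb⟩ := exists_desc ha
        obtain ⟨-, c, -, hc⟩ : b ∈ formSystem B := hBR ▸ hG.imgSystem_sub ⟨a, ha, hb⟩
        rw [hG.desc_rho hb hg, tlin_apply, tlin_apply, hc]
        have e1 : B u b.1 = - B b.1 u := (LinearMap.IsAlt.neg hA b.1 u).symm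
        simp [e1, hA b.1]
        ring
    refine Or.inr ⟨B', fun x => by rw [hB'apply]; exact hA _, ⟨fun x hx => ?_, fun x hx => ?_⟩,
      fun g x y => ?_, fun u c => ?_⟩
    · by_contra h0
      refine hne x h0 (hB.1 _ fun w => ?_)
      obtain ⟨y, rfl⟩ := Submodule.mkQ_surjective _ w
      exact (hB'apply x y).symm.trans (hx y)
    · by_contra h0
      refine hne x h0 (hB.2 _ fun w => ?_)
      obtain ⟨y, rfl⟩ := Submodule.mkQ_surjective _ w
      exact (hB'apply y x).symm.trans (hx y)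
    · rw [hB'apply, hB'apply, ← hG.rho_mk, ← hG.rho_mk, hinv]
    · by_cases hu : u = 0
      · exact ⟨1, fun x => by simp [hu]⟩
      by_cases hc : c = 0
      · exact ⟨1, fun x => by simp [hc]⟩
      obtain ⟨-, -, -, g, hg⟩ : ((Submodule.Quotient.mk u, (-c) • B (Submodule.Quotient.mk u)) : _ × _) ∈
          hG.actSystem := by
        rw [hBR]; exact ⟨hne u hu, -c, neg_ne_zero.mpr hc, rfl⟩
      refine ⟨g, fun x => ?_⟩
      have := back g u ((-c) • B (Submodule.Quotient.mk u) ∘ₗ e.symm.toLinearMap) (by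
        rw [hg]; congr 1; refine Prod.ext rfl (LinearMap.ext fun w => ?_); simp) x
      rw [this, hB'apply]
      congr 1
      simp only [LinearMap.smul_apply, LinearMap.comp_apply, LinearEquiv.coe_coe, he', smul_eq_mul]
      rw [← LinearMap.IsAlt.neg hA (Submodule.Quotient.mk x) (Submodule.Quotient.mk u)]
      congr 1
      ring

end Cfsg.Lib.McLaughlin
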