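import Cfsg.Prelude.Def_Solvable
import Cfsg.Agent.Quadratic.BaerSuzuki
import Cfsg.Agent.RootSub.McLaughlin.Structure

/-!
# The components of a group generated by transvections
-/

set_option autoImplicit false
set_option linter.unusedSectionVars false
set_option linter.unusedVariables false

namespace Cfsg.Lib.McLaughlin

open Submodule

variable {p : ℕ} [Fact p.Prime] {V : Type*} [AddCommGroup V] [Module (ZMod p) V] [Finite V]

/-- A linear automorphism as an endomorphism. -/
def linHom : (V ≃ₗ[ZMod p] V) →* Module.End (ZMod p) V where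
  toFun g := g.toLinearMap
  map_one' := rfl
  map_mul' _ _ := rfl

theorem linHom_injective : Function.Injective (linHom (p := p) (V := V)) :=
  fun g h he => LinearEquiv.ext fun x => LinearMap.congr_fun he x

theorem linHom_apply (g : V ≃ₗ[ZMod p] V) (x : V) : linHom g x = g x := rfl

/-- The transvections in `H`. -/
def transvsIn (H : Subgroup (V ≃ₗ[ZMod p] V)) : Set (V × Module.Dual (ZMod p) V) :=
  {a | a.1 ≠ 0 ∧ a.2 ≠ 0 ∧ a.2 a.1 = 0 ∧ ∃ h ∈ H, linHom h = tlin a}

/-- The component of a transvection. -/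
def transComp (H : Subgroup (V ≃ₗ[ZMod p] V)) (a : V × Module.Dual (ZMod p) V) :
    Set (V × Module.Dual (ZMod p) V) :=
  {b | b ∈ transvsIn H ∧ Relation.ReflTransGen (TStep (transvsIn H)) a b}

/-- The group generated by a set of transvections of `H`. -/
def transGen (H : Subgroup (V ≃ₗ[ZMod p] V)) (C : Set (V × Module.Dual (ZMod p) V)) :
    Subgroup (V ≃ₗ[ZMod p] V) :=
  Subgroup.closure {h | h ∈ H ∧ ∃ a ∈ C, linHom h = tlin a}

variable {H : Subgroup (V ≃ₗ[ZMod p] V)} {a b : V × Module.Dual (ZMod p) V}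

theorem transvsIn_closed (H : Subgroup (V ≃ₗ[ZMod p] V)) : TClosed (transvsIn H) := by
  have hsf : ∀ a ∈ transvsIn H, ∀ c : ZMod p, c ≠ 0 → (c • a.1, a.2) ∈ transvsIn H := by
    rintro a ⟨h1, h2, h3, h, hh, he⟩ c hc
    refine ⟨smul_ne_zero hc h1, h2, by simp [h3], h ^ c.val, pow_mem hh _, ?_⟩
    rw [map_pow, he, show a = (a.1, a.2) from rfl, tlin_pow h3, ZMod.natCast_val, ZMod.cast_id]
  refine ⟨fun a ha => ha.1, fun a ha => ha.2.1, fun a ha => ha.2.2.1, hsf, ?_, ?_⟩
  · rintro a ⟨h1, h2, h3, h, hh, he⟩ c hc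
    obtain ⟨-, -, -, h', hh', he'⟩ := hsf a ⟨h1, h2, h3, h, hh, he⟩ c hc
    exact ⟨h1, smul_ne_zero hc h2, by simp [h3], h', hh', he'.trans (tlin_swap c a.1 a.2)⟩
  · rintro a ⟨h1, h2, h3, g, hgH, hg⟩ b ⟨h1', h2', h3', h, hhH, hh⟩
    refine ⟨fun h0 => h1 ?_, fun h0 => h2 ?_, ?_, h * g * h⁻¹, mul_mem (mul_mem hhH hgH) (inv_mem hhH), ?_⟩
    · simp only [tconj] at h0
      have := congrArg b.2 h0
      simp [h3'] at this
      simpa [this] using h0
    · simp only [tconj] at h0
      have := LinearMap.congr_fun h0 b.1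
      simp [h3'] at this
      simpa [this] using h0
    · simp [tconj, h3, h3']; ring
    · rw [map_mul, map_mul, hh, hg, tlin_inv_eq linHom h3' hh, tlin_conj h3']

theorem transvsIn_add_fst (ha : a ∈ transvsIn H) (hb : b ∈ transvsIn H) (he : a.2 = b.2) (hne : a.1 + b.1 ≠ 0) :
    (a.1 + b.1, a.2) ∈ transvsIn H := by
  obtain ⟨v, φ⟩ := a
  obtain ⟨w, μ⟩ := b
  obtain ⟨-, h2, h3, g, hgH, hg⟩ := ha
  obtain ⟨-, -, h3', h, hhH, hh⟩ := hb
  simp only at he hne h2 h3 h3' hg hh ⊢
  subst he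
  exact ⟨hne, h2, by simp [h3, h3'], g * h, mul_mem hgH hhH, by rw [map_mul, hg, hh, tlin_add_fst h3']⟩

theorem transvsIn_add_snd (ha : a ∈ transvsIn H) (hb : b ∈ transvsIn H) (he : a.1 = b.1) (hne : a.2 + b.2 ≠ 0) :
    (a.1, a.2 + b.2) ∈ transvsIn H := by
  obtain ⟨v, φ⟩ := a
  obtain ⟨w, μ⟩ := b
  obtain ⟨h1, -, h3, g, hgH, hg⟩ := ha
  obtain ⟨-, -, h3', h, hhH, hh⟩ := hb
  simp only at he hne h1 h3 h3' hg hh ⊢
  subst he
  exact ⟨h1, hne, by simp [h3, h3'], g * h, mul_mem hgH hhH, by rw [map_mul, hg, hh, tlin_add_snd h3]⟩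

theorem tlin_conj_gen {g : V ≃ₗ[ZMod p] V} (a : V × Module.Dual (ZMod p) V) :
    linHom g * tlin a * linHom g⁻¹ = tlin (g a.1, a.2.comp (linHom g⁻¹)) :=
  LinearMap.ext fun x => by
    simp [Module.End.mul_apply, tlin_apply, linHom_apply]

theorem conj_mem_transvsIn {g : V ≃ₗ[ZMod p] V} (hg : g ∈ H) (ha : a ∈ transvsIn H) :
    (g a.1, a.2.comp (linHom g⁻¹)) ∈ transvsIn H := by
  obtain ⟨h1, h2, h3, h, hh, he⟩ := ha
  have hgg : ∀ x, linHom g⁻¹ (g x) = x := fun x => g.symm_apply_apply x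
  refine ⟨fun h0 => h1 (g.map_eq_zero_iff.mp h0), fun h0 => h2 ?_, ?_, g * h * g⁻¹,
    mul_mem (mul_mem hg hh) (inv_mem hg), ?_⟩
  · refine LinearMap.ext fun x => ?_
    have := LinearMap.congr_fun h0 (g x)
    rwa [LinearMap.comp_apply, hgg] at this
  · rw [LinearMap.comp_apply, hgg, h3]
  · rw [map_mul, map_mul, he, tlin_conj_gen]

/-- Two transvections, one fixing the centre of the other, lie in a group of exponent `p`. -/
theorem pow_eq_one_of_flag (hp : p ≠ 2) (h : b.2 a.1 = 0) (ha : a.2 a.1 = 0) (hb : b.2 b.1 = 0)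
    {X : Set (V ≃ₗ[ZMod p] V)} (hX : ∀ x ∈ X, linHom x = tlin a ∨ linHom x = tlin b)
    {x : V ≃ₗ[ZMod p] V} (hx : x ∈ Subgroup.closure X) : x ^ p = 1 := by
  set P : Submodule (ZMod p) V := span (ZMod p) {a.1}
  set Q : Submodule (ZMod p) V := span (ZMod p) {a.1, b.1}
  have hPQ : P ≤ Q := span_mono (by simp)
  have key : x a.1 = a.1 ∧ x b.1 - b.1 ∈ P ∧ ∀ z, x z - z ∈ Q := by
    induction hx using Subgroup.closure_induction with
    | mem x hx =>
      have e : ∀ z, x z = linHom x z := fun z => rfl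
      rcases hX x hx with h' | h' <;> simp only [e, h', tlin_apply]
      · refine ⟨by simp [ha], ?_, fun z => ?_⟩
        · rw [add_sub_cancel_left]; exact smul_mem _ _ (mem_span_singleton_self _)
        · rw [add_sub_cancel_left]; exact smul_mem _ _ (subset_span (by simp))
      · refine ⟨by simp [h], by simp [hb], fun z => ?_⟩
        rw [add_sub_cancel_left]; exact smul_mem _ _ (subset_span (by simp))
    | one => exact ⟨rfl, by simp, fun z => by simp⟩
    | mul x y _ _ hx hy =>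
      refine ⟨by rw [LinearEquiv.mul_apply, hy.1, hx.1], ?_, fun z => ?_⟩
      · obtain ⟨c, hc⟩ := mem_span_singleton.mp hy.2.1
        rw [LinearEquiv.mul_apply, show y b.1 = b.1 + c • a.1 by rw [hc]; abel, map_add, map_smul, hx.1,
          add_sub_right_comm]
        exact add_mem hx.2.1 (smul_mem _ _ (mem_span_singleton_self _))
      · rw [LinearEquiv.mul_apply, show x (y z) - z = (x (y z) - y z) + (y z - z) by abel]
        exact add_mem (hx.2.2 _) (hy.2.2 _)
    | inv x _ hx =>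
      have e : ∀ z, x⁻¹ (x z) = z := fun z => x.symm_apply_apply z
      have e' : ∀ z, x (x⁻¹ z) = z := fun z => x.apply_symm_apply z
      have h0 : x⁻¹ a.1 = a.1 := by conv_lhs => rw [← hx.1, e]
      refine ⟨h0, ?_, fun z => ?_⟩
      · obtain ⟨c, hc⟩ := mem_span_singleton.mp hx.2.1
        have : x⁻¹ b.1 = b.1 - c • a.1 := by
          have := congrArg (fun z => x⁻¹ z) hc
          rw [map_smul, h0, map_sub, e] at this
          rw [this]; abel
        rw [this, sub_sub_cancel_left]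
        exact neg_mem (smul_mem _ _ (mem_span_singleton_self _))
      · have h3 := neg_mem (hx.2.2 (x⁻¹ z))
        rwa [e', neg_sub] at h3
  obtain ⟨k1, k2, k3⟩ := key
  set D := linHom x - 1 with hD
  have hDap : ∀ z, D z = x z - z := fun z => rfl
  have hP : ∀ z ∈ P, D z = 0 := by
    intro z hz
    obtain ⟨c, rfl⟩ := mem_span_singleton.mp hz
    rw [hDap, map_smul, k1, sub_self]
  have hQ : ∀ z ∈ Q, D z ∈ P := by
    intro z hz
    obtain ⟨c, d, rfl⟩ := mem_span_pair.mp hz
    rw [map_add, map_smul, map_smul, hP _ (mem_span_singleton_self _), smul_zero, zero_add, hDap]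
    exact smul_mem _ _ k2
  have h3 : D * D * D = 0 := LinearMap.ext fun z => by
    rw [Module.End.mul_apply, Module.End.mul_apply, LinearMap.zero_apply]
    exact hP _ (hQ _ (by rw [hDap]; exact k3 z))
  have := one_add_pow_prime hp h3
  rw [hD, add_sub_cancel, ← map_pow] at this
  exact linHom_injective (this.trans (map_one linHom).symm)

/-- Every transvection has an opposite one. -/
theorem exists_transv_partner (hp : p ≠ 2) (hO : Cfsg.pCore p H = ⊥) (ha : a ∈ transvsIn H) :
    ∃ b ∈ transvsIn H, TAdj a b := by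
  by_contra hno
  push Not at hno
  obtain ⟨h1, h2, h3, t, htH, ht⟩ := id ha
  haveI : Finite (V ≃ₗ[ZMod p] V) := Finite.of_injective _ LinearEquiv.toEquiv_injective
  obtain ⟨N, hN, hNp, hle⟩ := Cfsg.Lib.BaerSuzuki.baer_suzuki (p := p) (Subgroup.zpowers (⟨t, htH⟩ : H)) (fun g => by
    set b : V × Module.Dual (ZMod p) V := ((g : V ≃ₗ[ZMod p] V) a.1, a.2.comp (linHom (g : V ≃ₗ[ZMod p] V)⁻¹)) with hb
    have hbR : b ∈ transvsIn H := conj_mem_transvsIn g.2 ha
    set X : Set (V ≃ₗ[ZMod p] V) := {t, (g : V ≃ₗ[ZMod p] V) * t * (g : V ≃ₗ[ZMod p] V)⁻¹}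
    have hX : ∀ x ∈ X, linHom x = tlin a ∨ linHom x = tlin b := by
      rintro x (rfl | rfl)
      · exact Or.inl ht
      · exact Or.inr (by rw [map_mul, map_mul, ht, tlin_conj_gen])
    have hpow : ∀ x ∈ Subgroup.closure X, x ^ p = 1 := fun x hx => by
      by_cases h0 : b.2 a.1 = 0
      · exact pow_eq_one_of_flag hp h0 h3 hbR.2.2.1 hX hx
      · exact pow_eq_one_of_flag hp (by_contra fun h' => hno b hbR ⟨h', h0⟩) hbR.2.2.1 h3
          (fun y hy => (hX y hy).symm) hx
    intro y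
    refine ⟨1, Subtype.ext (Subtype.ext ?_)⟩
    rw [pow_one]
    push_cast
    refine hpow _ ?_
    have hle : Subgroup.zpowers (⟨t, htH⟩ : H) ⊔ (Subgroup.zpowers (⟨t, htH⟩ : H)).map (MulAut.conj g).toMonoidHom ≤
        (Subgroup.closure X).comap H.subtype := by
      refine sup_le (Subgroup.zpowers_le.mpr (Subgroup.subset_closure (by simp [X]))) ?_
      rw [MonoidHom.map_zpowers, Subgroup.zpowers_le]
      exact Subgroup.subset_closure (by simp [X])
    exact hle y.2)
  have hbot : N ≤ Cfsg.pCore p H := le_sSup ⟨hN, hNp⟩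
  rw [hO] at hbot
  have h0 : (⟨t, htH⟩ : H) = 1 := Subgroup.mem_bot.mp (hbot (hle (Subgroup.mem_zpowers _)))
  rw [show t = 1 from congrArg Subtype.val h0, map_one] at ht
  obtain ⟨x, hx⟩ := exists_apply_ne h2
  have := LinearMap.congr_fun ht x
  simp [tlin_apply] at this
  exact this.elim hx h1

theorem tadj_symm {a b : V × Module.Dual (ZMod p) V} (h : TAdj a b) : TAdj b a := ⟨h.2, h.1⟩

theorem mem_transComp_self (ha : a ∈ transvsIn H) : a ∈ transComp H a := ⟨ha, Relation.ReflTransGen.refl⟩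

theorem reach_symm (ha : a ∈ transvsIn H) (h : Relation.ReflTransGen (TStep (transvsIn H)) a b) :
    b ∈ transvsIn H ∧ Relation.ReflTransGen (TStep (transvsIn H)) b a := by
  induction h with
  | refl => exact ⟨ha, Relation.ReflTransGen.refl⟩
  | @tail x y _ hs ih => exact ⟨hs.1, Relation.ReflTransGen.head ⟨ih.1, tadj_symm hs.2⟩ ih.2⟩

theorem transComp_eq (ha : a ∈ transvsIn H) (hb : b ∈ transComp H a) : transComp H b = transComp H a := by
  ext c
  exact ⟨fun hc => ⟨hc.1, hb.2.trans hc.2⟩, fun hc => ⟨hc.1, (reach_symm ha hb.2).2.trans hc.2⟩⟩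

theorem two_step {c : V × Module.Dual (ZMod p) V} (hb : b ∈ transvsIn H) (hc : c ∈ transvsIn H) (h : TAdj a c)
    (h' : TAdj b c) : b ∈ transComp H a :=
  ⟨hb, (Relation.ReflTransGen.single ⟨hc, h⟩).tail ⟨hb, tadj_symm h'⟩⟩

/-- Conjugation by a transvection keeps the component. -/
theorem conj_same_comp (hp : p ≠ 2) (hO : Cfsg.pCore p H = ⊥) (ha : a ∈ transvsIn H) (hb : b ∈ transvsIn H) :
    tconj b a ∈ transComp H a := by
  have hC := transvsIn_closed H
  have ha' := hC.conj a ha b hb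
  have h2 := two_ne_zero_zmod hp
  obtain ⟨y, hy, hay⟩ := exists_transv_partner hp hO ha
  have hb0 := hC.perp b hb
  -- one of the scalars keeps both inequalities
  have scalar : ∀ A B : ZMod p, A ≠ 0 →
      ∃ t : ZMod p, A + t * B ≠ 0 ∧ A + (t - 1) * B ≠ 0 := by
    intro A B hA
    by_cases hB : B = 0
    · exact ⟨0, by simp [hB, hA], by simp [hB, hA]⟩
    by_cases h0 : A - B ≠ 0
    · exact ⟨0, by simpa using hA, by simpa [sub_mul, ← sub_eq_add_neg] using h0⟩
    push Not at h0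
    refine ⟨1, fun h1 => ?_, by simpa using hA⟩
    have : (2 : ZMod p) * A = 0 := by linear_combination h1 + h0
    exact hA ((mul_eq_zero.mp this).resolve_left h2)
  by_cases hφ : a.2 b.1 = 0
  · by_cases hμ : b.2 a.1 = 0
    · rw [show tconj b a = a by simp [tconj, hφ, hμ]]; exact mem_transComp_self ha
    obtain ⟨t, ht, ht'⟩ := scalar (y.2 a.1) (-(y.2 b.1 * b.2 a.1)) hay.2
    refine two_step ha' (hC.conj_scaled hy hb t) ⟨?_, ?_⟩ ⟨?_, ?_⟩
    · simpa [hφ] using hay.1
    · simp only [LinearMap.sub_apply, LinearMap.smul_apply, smul_eq_mul]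
      convert ht using 1; ring
    · simpa [tconj, hφ] using hay.1
    · simp only [tconj, LinearMap.sub_apply, LinearMap.smul_apply, smul_eq_mul, map_add, map_smul, hb0, mul_zero,
        add_zero]
      convert ht' using 1; ring
  · by_cases hμ : b.2 a.1 = 0
    · obtain ⟨t, ht, ht'⟩ := scalar (a.2 y.1) (b.2 y.1 * a.2 b.1) hay.1
      refine two_step ha' (hC.conj_scaled hy hb t) ⟨?_, ?_⟩ ⟨?_, ?_⟩
      · simp only [map_add, map_smul, smul_eq_mul]
        convert ht using 1; ring
      · simpa [hμ] using hay.2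
      · simp only [tconj, LinearMap.sub_apply, LinearMap.smul_apply, smul_eq_mul, map_add, map_smul, hb0, mul_zero,
          add_zero]
        convert ht' using 1; ring
      · simpa [tconj, hμ] using hay.2
    · refine two_step ha' hb ⟨hφ, hμ⟩ ⟨?_, ?_⟩
      · simpa [tconj, hb0] using hφ
      · simpa [tconj, hb0] using hμ

/-- Non-orthogonal transvections lie in one component. -/
theorem same_comp_of_nonorth (hp : p ≠ 2) (hO : Cfsg.pCore p H = ⊥) (ha : a ∈ transvsIn H) (hb : b ∈ transvsIn H)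
    (h : a.2 b.1 ≠ 0) : b ∈ transComp H a := by
  have hC := transvsIn_closed H
  by_cases hμ : b.2 a.1 = 0
  swap
  · exact ⟨hb, Relation.ReflTransGen.single ⟨hb, h, hμ⟩⟩
  -- the transvection on the centre of `a` with the axis of `b`
  have hr : (a.1, b.2) ∈ transvsIn H := by
    have h1 := hC.conj b hb a ha
    have h2' := hC.smul_fst b hb (-1) (neg_ne_zero.mpr one_ne_zero)
    have h3 := transvsIn_add_fst h1 h2' (by simp [tconj, hμ]) (by simp [tconj, h, hC.fst_ne a ha])
    have e : tconj a b = (b.1 + a.2 b.1 • a.1, b.2) := by simp [tconj, hμ]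
    simp only [e, show b.1 + a.2 b.1 • a.1 + (-1 : ZMod p) • b.1 = a.2 b.1 • a.1 by module] at h3
    have h4 := hC.smul_fst _ h3 (a.2 b.1)⁻¹ (inv_ne_zero h)
    simpa [smul_smul, inv_mul_cancel₀ h] using h4
  obtain ⟨x, hx, hrx⟩ := exists_transv_partner hp hO hr
  have hμx : b.2 x.1 ≠ 0 := hrx.1
  have hξv : x.2 a.1 ≠ 0 := hrx.2
  have hxa : x ∈ transComp H a := by
    by_cases h0 : a.2 x.1 ≠ 0
    · exact ⟨hx, Relation.ReflTransGen.single ⟨hx, h0, hξv⟩⟩
    push Not at h0
    obtain ⟨-, hr'⟩ := conj_same_comp hp hO ha hb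
    refine ⟨hx, hr'.tail ⟨hx, ?_, ?_⟩⟩
    · simp [tconj, h0, h, hμx]
    · simpa [tconj, hμ] using hξv
  have hxb : x ∈ transComp H b := by
    by_cases h0 : x.2 b.1 ≠ 0
    · exact ⟨hx, Relation.ReflTransGen.single ⟨hx, hμx, h0⟩⟩
    push Not at h0
    obtain ⟨-, hr'⟩ := conj_same_comp hp hO hb ha
    refine ⟨hx, hr'.tail ⟨hx, ?_, ?_⟩⟩
    · simpa [tconj, hμ] using hμx
    · simp [tconj, h0, h, hξv]
  rw [← transComp_eq ha hxa, transComp_eq hb hxb]
  exact mem_transComp_self hb

/-- Transvections in different components are orthogonal. -/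
theorem orth_of_ne_comp (hp : p ≠ 2) (hO : Cfsg.pCore p H = ⊥) (ha : a ∈ transvsIn H) (hb : b ∈ transvsIn H)
    (h : b ∉ transComp H a) : a.2 b.1 = 0 ∧ b.2 a.1 = 0 := by
  refine ⟨by_contra fun h' => h (same_comp_of_nonorth hp hO ha hb h'), by_contra fun h' => h ?_⟩
  have := same_comp_of_nonorth hp hO hb ha h'
  rw [transComp_eq hb this]
  exact mem_transComp_self hb

theorem transGen_le (C : Set (V × Module.Dual (ZMod p) V)) : transGen H C ≤ H :=
  (Subgroup.closure_le _).mpr fun h hh => hh.1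

theorem mem_transGen {C : Set (V × Module.Dual (ZMod p) V)} {h : V ≃ₗ[ZMod p] V} (hC : C ⊆ transvsIn H)
    (ha : a ∈ C) (he : linHom h = tlin a) : h ∈ transGen H C := by
  obtain ⟨-, -, -, h', hh', he'⟩ := hC ha
  exact Subgroup.subset_closure ⟨linHom_injective (he'.trans he.symm) ▸ hh', a, ha, he⟩

theorem generators_normalize (hp : p ≠ 2) (hO : Cfsg.pCore p H = ⊥) (ha : a ∈ transvsIn H) (hb : b ∈ transvsIn H)
    {t : V ≃ₗ[ZMod p] V} (ht : linHom t = tlin b) :
    t ∈ transGen H (transComp H a) ∨ t ∈ Subgroup.centralizer (transGen H (transComp H a) : Set (V ≃ₗ[ZMod p] V)) := by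
  by_cases h : b ∈ transComp H a
  · exact Or.inl (mem_transGen (fun c hc => hc.1) h ht)
  refine Or.inr ?_
  have hle : transGen H (transComp H a) ≤ Subgroup.centralizer {t} := by
    refine (Subgroup.closure_le _).mpr ?_
    rintro g ⟨-, c, hc, hg⟩
    obtain ⟨h1, h2⟩ := orth_of_ne_comp hp hO hc.1 hb (by rw [transComp_eq ha hc]; exact h)
    rw [SetLike.mem_coe, Subgroup.mem_centralizer_singleton_iff]
    refine linHom_injective ?_
    rw [map_mul, map_mul, hg, ht]
    refine LinearMap.ext fun z => ?_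
    simp only [Module.End.mul_apply, tlin_apply, map_add, map_smul, h1, h2, smul_zero, add_zero, zero_smul]
    abel
  rw [Subgroup.mem_centralizer_iff]
  exact fun g hg => Subgroup.mem_centralizer_singleton_iff.mp (hle hg)

theorem component_group (hp : p ≠ 2) (hO : Cfsg.pCore p H = ⊥) {T : Set (V ≃ₗ[ZMod p] V)}
    (hHT : H = Subgroup.closure T) (hT : ∀ t ∈ T, ∃ b ∈ transvsIn H, linHom t = tlin b) (ha : a ∈ transvsIn H) :
    H ≤ Subgroup.normalizer (transGen H (transComp H a) : Set (V ≃ₗ[ZMod p] V)) ∧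
    TGroup (linHom.comp (transGen H (transComp H a)).subtype) (transComp H a) := by
  set K := transGen H (transComp H a)
  have hC := transvsIn_closed H
  have hnorm : H ≤ Subgroup.normalizer (K : Set (V ≃ₗ[ZMod p] V)) := by
    conv_lhs => rw [hHT]
    rw [Subgroup.closure_le]
    intro t ht
    obtain ⟨b, hb, he⟩ := hT t ht
    rcases generators_normalize hp hO ha hb he with h | h
    · exact Subgroup.le_normalizer h
    · exact Subgroup.centralizer_le_normalizer _ h
  have hpart : ∀ x ∈ transComp H a, ∃ y ∈ transComp H a, TAdj x y := fun x hx => by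
    obtain ⟨y, hy, hxy⟩ := exists_transv_partner hp hO hx.1
    exact ⟨y, ⟨hy, hx.2.tail ⟨hy, hxy⟩⟩, hxy⟩
  have hcl : TClosed (transComp H a) := by
    refine ⟨fun x hx => hx.1.1, fun x hx => hx.1.2.1, fun x hx => hx.1.2.2.1, fun x hx c hc => ?_,
      fun x hx c hc => ?_, fun x hx y hy => ?_⟩
    · obtain ⟨y, hy, hxy⟩ := hpart x hx
      refine ⟨hC.smul_fst x hx.1 c hc, hy.2.tail ⟨hC.smul_fst x hx.1 c hc, hxy.2 ∘ fun h => ?_, hxy.1⟩⟩
      simpa [hc] using h
    · obtain ⟨y, hy, hxy⟩ := hpart x hx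
      refine ⟨hC.smul_snd x hx.1 c hc, hy.2.tail ⟨hC.smul_snd x hx.1 c hc, hxy.2, hxy.1 ∘ fun h => ?_⟩⟩
      simpa [hc] using h
    · rw [← transComp_eq ha hx]
      exact conj_same_comp hp hO hx.1 hy.1
  refine ⟨hnorm, ⟨linHom_injective.comp K.subtype_injective, hcl, fun x hx y hy he hne => ?_, fun x hx y hy he hne => ?_,
    ?_, hpart, fun x hx => ?_, ?_, ?_, ⟨a, mem_transComp_self ha⟩⟩⟩
  · have h := transvsIn_add_fst hx.1 hy.1 he hne
    obtain ⟨z, hz, hxz⟩ := hpart x hx
    refine ⟨h, ?_⟩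
    by_contra hno
    have := (orth_of_ne_comp hp hO hz.1 h (by rw [transComp_eq ha hz]; exact fun hh => hno hh.2)).2
    exact hxz.1 this
  · have h := transvsIn_add_snd hx.1 hy.1 he hne
    obtain ⟨z, hz, hxz⟩ := hpart x hx
    refine ⟨h, ?_⟩
    by_contra hno
    have := (orth_of_ne_comp hp hO hz.1 h (by rw [transComp_eq ha hz]; exact fun hh => hno hh.2)).1
    exact hxz.2 this
  · intro x hx y hy
    suffices ∀ z, Relation.ReflTransGen (TStep (transvsIn H)) x z →
        Relation.ReflTransGen (TStep (transComp H a)) x z ∧ z ∈ transComp H a from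
      (this y ((reach_symm ha hx.2).2.trans hy.2)).1
    intro z hz
    induction hz with
    | refl => exact ⟨Relation.ReflTransGen.refl, hx⟩
    | @tail u w _ hs ih => exact ⟨ih.1.tail ⟨⟨hs.1, ih.2.2.tail hs⟩, hs.2⟩, hs.1, ih.2.2.tail hs⟩
  · obtain ⟨-, -, -, h, -, he⟩ := hx.1
    exact ⟨⟨h, mem_transGen (fun c hc => hc.1) hx he⟩, he⟩
  · rw [eq_top_iff]
    rintro ⟨g, hg⟩ -
    have hg' : g ∈ Subgroup.closure {h | h ∈ H ∧ ∃ x ∈ transComp H a, linHom h = tlin x} := hg
    have : g ∈ (Subgroup.closure {g : K | ∃ x ∈ transComp H a, linHom.comp K.subtype g = tlin x}).map K.subtype := by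
      refine (Subgroup.closure_le _).mpr ?_ hg'
      rintro h ⟨-, x, hx, he⟩
      exact ⟨⟨h, mem_transGen (fun c hc => hc.1) hx he⟩, Subgroup.subset_closure ⟨x, hx, he⟩, rfl⟩
    obtain ⟨g', hg', e⟩ := this
    rwa [show (⟨g, hg⟩ : K) = g' from Subtype.ext e.symm]
  · intro N hN hNp
    set N' : Subgroup (V ≃ₗ[ZMod p] V) := N.map K.subtype
    have hK : K ≤ Subgroup.normalizer (N' : Set (V ≃ₗ[ZMod p] V)) := by
      haveI := hN
      have : (N'.subgroupOf K).Normal := by
        rwa [show N'.subgroupOf K = N from Subgroup.comap_map_eq_self_of_injective K.subtype_injective N]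
      exact Subgroup.normal_subgroupOf_iff_le_normalizer (Subgroup.map_subtype_le N) |>.mp this
    have hHN : H ≤ Subgroup.normalizer (N' : Set (V ≃ₗ[ZMod p] V)) := by
      conv_lhs => rw [hHT]
      rw [Subgroup.closure_le]
      intro t ht
      obtain ⟨b, hb, he⟩ := hT t ht
      rcases generators_normalize hp hO ha hb he with h | h
      · exact hK h
      · exact Subgroup.centralizer_le_normalizer _
          (Subgroup.centralizer_le (SetLike.coe_subset_coe.mpr (Subgroup.map_subtype_le N)) h)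
    have hN'H : N' ≤ H := (Subgroup.map_subtype_le N).trans (transGen_le _)
    haveI : (N'.subgroupOf H).Normal := (Subgroup.normal_subgroupOf_iff_le_normalizer hN'H).mpr hHN
    have hp' : IsPGroup p (N'.subgroupOf H) :=
      (hNp.map K.subtype).of_equiv (Subgroup.subgroupOfEquivOfLe hN'H).symm
    have hb : N'.subgroupOf H ≤ Cfsg.pCore p H := le_sSup ⟨inferInstance, hp'⟩
    rw [hO, le_bot_iff, Subgroup.subgroupOf_eq_bot, disjoint_iff, inf_eq_left.mpr hN'H] at hb
    exact (Subgroup.map_eq_bot_iff_of_injective N K.subtype_injective).mp hb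

end Cfsg.Lib.McLaughlin
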