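import Cfsg.Agent.RootSub.McLaughlin.Comps
import Cfsg.Agent.Classical.Transv.Basic
import Cfsg.Agent.Classical.Symp.Basic

/-!
# McLaughlin's decomposition
-/

set_option autoImplicit false
set_option linter.unusedSectionVars false
set_option linter.unusedVariables false

namespace Cfsg.Lib.McLaughlin

open Submodule

variable {p : ℕ} [Fact p.Prime] {V : Type*} [AddCommGroup V] [Module (ZMod p) V] [Finite V]

theorem exists_pair_of_transvection {t : V ≃ₗ[ZMod p] V} (ho : orderOf t = p)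
    (hr : Module.finrank (ZMod p) (LinearMap.ker ((t : V →ₗ[ZMod p] V) - LinearMap.id)) + 1 =
      Module.finrank (ZMod p) V) :
    ∃ a : V × Module.Dual (ZMod p) V, a.1 ≠ 0 ∧ a.2 ≠ 0 ∧ a.2 a.1 = 0 ∧ linHom t = tlin a := by
  set D : V →ₗ[ZMod p] V := (t : V →ₗ[ZMod p] V) - LinearMap.id with hD
  have hrange : Module.finrank (ZMod p) (LinearMap.range D) = 1 := by
    have := D.finrank_range_add_finrank_ker
    omega
  obtain ⟨v, hv, hsp⟩ := finrank_eq_one_iff'.mp hrange
  have hφex : ∀ x, ∃ c : ZMod p, c • (v : V) = D x := fun x => by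
    obtain ⟨c, hc⟩ := hsp ⟨D x, LinearMap.mem_range_self D x⟩
    exact ⟨c, congrArg Subtype.val hc⟩
  choose f hf using hφex
  have hv0 : (v : V) ≠ 0 := fun h => hv (Subtype.ext h)
  let φ : Module.Dual (ZMod p) V :=
    { toFun := f
      map_add' := fun x y => smul_left_injective (ZMod p) hv0 (by
        show f (x + y) • (v : V) = (f x + f y) • (v : V)
        rw [add_smul, hf, hf, hf, map_add])
      map_smul' := fun c x => smul_left_injective (ZMod p) hv0 (by
        show f (c • x) • (v : V) = (c • f x) • (v : V)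
        rw [smul_eq_mul, mul_smul, hf, hf, map_smul]) }
  have hφ : ∀ x, t x = x + φ x • (v : V) := fun x => by
    show t x = x + f x • (v : V)
    rw [hf]
    simp [hD]
  have hpow : ∀ n : ℕ, (t ^ n) (v : V) = (1 + φ v) ^ n • (v : V) := by
    intro n
    induction n with
    | zero => simp
    | succ n ih =>
      rw [pow_succ', LinearEquiv.mul_apply, ih, map_smul, hφ, pow_succ, mul_smul, add_smul, one_smul]
  have hperp : φ v = 0 := by
    have h := hpow p
    rw [show t ^ p = 1 from orderOf_dvd_iff_pow_eq_one.mp ho.dvd, ZMod.pow_card] at h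
    have h' : ((1 + φ v) - 1) • (v : V) = 0 := by
      rw [sub_smul, ← h, one_smul]; exact sub_self _
    simpa [hv0] using h'
  refine ⟨(v, φ), hv0, fun h0 => ?_, hperp, LinearMap.ext fun x => by rw [tlin_apply]; exact hφ x⟩
  have ht : t = 1 := LinearEquiv.ext fun x => by
    have h1 : φ x = 0 := LinearMap.congr_fun h0 x
    rw [hφ, h1, zero_smul, add_zero]
    rfl
  rw [ht, orderOf_one] at ho
  exact (Fact.out (p := p.Prime)).one_lt.ne ho

/-- The elements fixing a set of vectors. -/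
def fixingGroup (s : Set V) : Subgroup (V ≃ₗ[ZMod p] V) where
  carrier := {g | ∀ x ∈ s, g x = x}
  mul_mem' {g h} hg hh x hx := by rw [LinearEquiv.mul_apply, hh x hx, hg x hx]
  one_mem' x _ := rfl
  inv_mem' {g} hg x hx := by
    conv_lhs => rw [← hg x hx]
    exact g.symm_apply_apply x

/-- Restriction to an invariant subspace. -/
noncomputable def restrictHom (K : Subgroup (V ≃ₗ[ZMod p] V)) (W : Submodule (ZMod p) V)
    (h : ∀ g ∈ K, ∀ x ∈ W, g x ∈ W) : K →* (W ≃ₗ[ZMod p] W) where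
  toFun g := LinearEquiv.ofLinearMap (((g : V ≃ₗ[ZMod p] V) : V →ₗ[ZMod p] V).restrict (h g g.2))
    ((((g : V ≃ₗ[ZMod p] V)⁻¹ : V ≃ₗ[ZMod p] V) : V →ₗ[ZMod p] V).restrict (h _ (inv_mem g.2)))
    (LinearMap.ext fun x => Subtype.ext ((g : V ≃ₗ[ZMod p] V).apply_symm_apply x))
    (LinearMap.ext fun x => Subtype.ext ((g : V ≃ₗ[ZMod p] V).symm_apply_apply x))
  map_one' := LinearEquiv.ext fun x => Subtype.ext rfl
  map_mul' g g' := LinearEquiv.ext fun x => Subtype.ext rfl

theorem restrictHom_apply {K : Subgroup (V ≃ₗ[ZMod p] V)} {W : Submodule (ZMod p) V}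
    (h : ∀ g ∈ K, ∀ x ∈ W, g x ∈ W) (g : K) (x : W) :
    ((restrictHom K W h g x : W) : V) = (g : V ≃ₗ[ZMod p] V) (x : V) := rfl

theorem component_action (hp : p ≠ 2) {K : Subgroup (V ≃ₗ[ZMod p] V)} {R : Set (V × Module.Dual (ZMod p) V)}
    (hG : TGroup (linHom.comp K.subtype) R) (W : Submodule (ZMod p) V) (hW : W = centreSpan R) :
    ∃ ρ : K →* (W ≃ₗ[ZMod p] W),
      (∀ (h : K) (v : W), ((ρ h v : W) : V) = (h : V ≃ₗ[ZMod p] V) (v : V)) ∧
      ((ρ.range : Set (W ≃ₗ[ZMod p] W)) = {f : W ≃ₗ[ZMod p] W | LinearMap.det (f : W →ₗ[ZMod p] W) = 1} ∨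
        ∃ B : LinearMap.BilinForm (ZMod p) W, B.IsAlt ∧ B.Nondegenerate ∧
          (ρ.range : Set (W ≃ₗ[ZMod p] W)) = {f : W ≃ₗ[ZMod p] W | ∀ x y, B (f x) (f y) = B x y}) := by
  subst hW
  have hinv : ∀ g ∈ K, ∀ x ∈ centreSpan R, g x ∈ centreSpan R := fun g hg x hx =>
    hG.map_centreSpan ⟨g, hg⟩ x hx
  refine ⟨restrictHom K _ hinv, restrictHom_apply hinv, ?_⟩
  set ρ := restrictHom K (centreSpan R) hinv with hρdef
  rcases hG.structure hp with hall | ⟨B, hA, hB, hpres, hreal⟩
  · refine Or.inl ?_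
    have hle : ρ.range ≤ Cfsg.Lib.Classical.slGroup (ZMod p) (centreSpan R) := by
      rintro _ ⟨g, rfl⟩
      induction g using hG.induct with
      | h1 => rw [map_one]; exact one_mem _
      | hmul g h ihg ihh => rw [map_mul]; exact mul_mem ihg ihh
      | hgen g a ha hg =>
        have hperp : (a.2.comp (centreSpan R).subtype) ⟨a.1, mem_centreSpan ha⟩ = 0 := hG.cl.perp a ha
        have e : ρ g = LinearEquiv.transvection hperp := LinearEquiv.ext fun x => Subtype.ext (by
          rw [restrictHom_apply, LinearEquiv.transvection.apply]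
          exact (LinearMap.congr_fun hg (x : V)).trans (tlin_apply a x))
        rw [e]
        exact LinearEquiv.transvection.det_eq_one hperp
    have hge : ρ.range.subgroupOf (Cfsg.Lib.Classical.slGroup (ZMod p) (centreSpan R)) = ⊤ :=
      Cfsg.Lib.Classical.slGroup_eq_top_of_transvections fun v φ hφ => by
        obtain ⟨g, hg⟩ := hall v φ hφ
        refine ⟨g, LinearEquiv.ext fun x => Subtype.ext ?_⟩
        rw [restrictHom_apply]
        show _ = (((Cfsg.Lib.Classical.slT φ v hφ : Cfsg.Lib.Classical.slGroup (ZMod p) (centreSpan R)) :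
          centreSpan R ≃ₗ[ZMod p] centreSpan R) x : V)
        rw [Cfsg.Lib.Classical.slT_apply]
        exact hg x
    rw [Subgroup.subgroupOf_eq_top] at hge
    ext f
    rw [le_antisymm hle hge, SetLike.mem_coe, Cfsg.Lib.Classical.slGroup, MonoidHom.mem_ker, Set.mem_setOf_eq,
      Units.ext_iff, LinearEquiv.coe_det, Units.val_one]
  · refine Or.inr ⟨B, hA, hB, Set.Subset.antisymm ?_ ?_⟩
    · rintro _ ⟨g, rfl⟩ x y
      exact hpres g x y
    · intro f hf
      have hsub : (⊤ : Subgroup (Cfsg.Lib.Classical.BilinIsom B)) ≤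
          ρ.range.subgroupOf (Cfsg.Lib.Classical.BilinIsom B) := by
        rw [← Cfsg.Lib.Classical.transGroup_eq_top hA hB, Cfsg.Lib.Classical.transGroup,
          Cfsg.Lib.Classical.transGroupOn, Subgroup.closure_le]
        rintro _ ⟨v, -, c, rfl⟩
        obtain ⟨g, hg⟩ := hreal v c
        refine ⟨g, LinearEquiv.ext fun x => Subtype.ext ?_⟩
        rw [restrictHom_apply]
        show _ = (((Cfsg.Lib.Classical.sympT hA v c : Cfsg.Lib.Classical.BilinIsom B) :
          centreSpan R ≃ₗ[ZMod p] centreSpan R) x : V)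
        rw [Cfsg.Lib.Classical.sympT_apply]
        exact hg x
      exact hsub (Subgroup.mem_top (⟨f, hf⟩ : Cfsg.Lib.Classical.BilinIsom B))

/-- The conclusion of the decomposition. -/
theorem mclaughlin_decomp (hp : Odd p) (H : Subgroup (V ≃ₗ[ZMod p] V)) (T : Set (V ≃ₗ[ZMod p] V))
    (hHT : H = Subgroup.closure T)
    (hT : ∀ t ∈ T, orderOf t = p ∧
      Module.finrank (ZMod p) ↥(LinearMap.ker ((t : V →ₗ[ZMod p] V) - LinearMap.id)) + 1 =
        Module.finrank (ZMod p) V)
    (hOp : Cfsg.pCore p ↥H = ⊥) :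
    ∃ (n : ℕ) (W : Fin (n + 1) → Submodule (ZMod p) V) (K : Fin n → Subgroup (V ≃ₗ[ZMod p] V)),
      1 ≤ n ∧ DirectSum.IsInternal W ∧
      (∀ h ∈ H, ∀ i, (W i).map (h : V →ₗ[ZMod p] V) = W i) ∧
      (∀ j, K j ≤ H ∧ ((K j).subgroupOf H).Normal) ∧ ⨆ j, K j = H ∧
      (∀ j, K j ⊓ (⨆ j' ∈ {j' : Fin n | j' ≠ j}, K j') = ⊥) ∧
      (∀ j j', j ≠ j' → ∀ a ∈ K j, ∀ b ∈ K j', a * b = b * a) ∧
      (∀ j, ∀ h ∈ K j, ∀ i : Fin (n + 1), i ≠ j.succ → ∀ v ∈ W i, h v = v) ∧
      (∀ j, ∃ ρ : ↥(K j) →* (↥(W j.succ) ≃ₗ[ZMod p] ↥(W j.succ)),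
        (∀ (h : ↥(K j)) (v : ↥(W j.succ)), ((ρ h v : ↥(W j.succ)) : V) = (h : V ≃ₗ[ZMod p] V) (v : V)) ∧
        ((ρ.range : Set (↥(W j.succ) ≃ₗ[ZMod p] ↥(W j.succ))) =
            {f : ↥(W j.succ) ≃ₗ[ZMod p] ↥(W j.succ) | LinearMap.det (f : ↥(W j.succ) →ₗ[ZMod p] ↥(W j.succ)) = 1} ∨
          ∃ B : LinearMap.BilinForm (ZMod p) ↥(W j.succ), B.IsAlt ∧ B.Nondegenerate ∧
            (ρ.range : Set (↥(W j.succ) ≃ₗ[ZMod p] ↥(W j.succ))) = {f : ↥(W j.succ) ≃ₗ[ZMod p] ↥(W j.succ) | ∀ x y, B (f x) (f y) = B x y})) := by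
  classical
  have hp2 : p ≠ 2 := fun h => by
    rw [h] at hp; exact absurd hp (by decide)
  have hTp : ∀ t ∈ T, ∃ b ∈ transvsIn H, linHom t = tlin b := by
    intro t ht
    obtain ⟨b, h1, h2, h3, h4⟩ := exists_pair_of_transvection (hT t ht).1 (hT t ht).2
    exact ⟨b, ⟨h1, h2, h3, t, hHT ▸ Subgroup.subset_closure ht, h4⟩, h4⟩
  by_cases hne : T = ∅
  · -- the trivial group
    have hH : H = ⊥ := by rw [hHT, hne, Subgroup.closure_empty]
    refine ⟨1, Fin.cases ⊤ (fun _ => ⊥), fun _ => ⊥, le_rfl, ?_, ?_, fun j => ⟨bot_le, ?_⟩, ?_, ?_, ?_, ?_,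
      fun j => ⟨1, fun h v => ?_, Or.inl ?_⟩⟩
    · rw [DirectSum.isInternal_submodule_iff_iSupIndep_and_iSup_eq_top]
      refine ⟨fun i => ?_, eq_top_iff.mpr (le_iSup_of_le 0 le_rfl)⟩
      refine Fin.cases ?_ (fun i => disjoint_bot_left) i
      exact disjoint_bot_right.mono_right (iSup₂_le fun j hj => Fin.cases (fun h => absurd rfl h) (fun _ _ => le_rfl) j hj)
    · intro h hh i
      rw [hH, Subgroup.mem_bot] at hh
      subst hh
      exact Submodule.map_id _
    · rw [Subgroup.bot_subgroupOf]; infer_instance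
    · rw [hH]; simp
    · intro j; simp
    · intro j j' hjj; exact absurd (Subsingleton.elim j j') hjj
    · intro j h hh i _ v _
      rw [Subgroup.mem_bot] at hh
      subst hh; rfl
    · have h1 : (h : V ≃ₗ[ZMod p] V) = 1 := Subgroup.mem_bot.mp h.2
      rw [h1]; rfl
    · ext f
      have hsub : Subsingleton ↥(⊥ : Submodule (ZMod p) V) := inferInstance
      refine ⟨fun _ => ?_, fun _ => ⟨1, LinearEquiv.ext fun x => @Subsingleton.elim _ hsub _ _⟩⟩
      exact LinearMap.det_eq_one_of_finrank_eq_zero (finrank_bot _ _) _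
  -- the components
  obtain ⟨t₀, ht₀⟩ := Set.nonempty_iff_ne_empty.mpr hne
  set comps : Set (Set (V × Module.Dual (ZMod p) V)) := transComp H '' transvsIn H with hcomps
  haveI : Finite (Module.Dual (ZMod p) V) := Module.finite_of_finite (ZMod p)
  haveI : Fintype comps := Fintype.ofFinite _
  set n := Fintype.card comps with hn
  let c : Fin n → comps := (Fintype.equivFin comps).symm
  let C : Fin n → Set (V × Module.Dual (ZMod p) V) := fun j => c j
  have hC : ∀ j, ∃ a ∈ transvsIn H, C j = transComp H a := fun j => by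
    obtain ⟨a, ha, e⟩ := (c j).2
    exact ⟨a, ha, e.symm⟩
  have hCinj : Function.Injective C := fun i j h => (Fintype.equivFin comps).symm.injective (Subtype.ext h)
  have hCsurj : ∀ a ∈ transvsIn H, ∃ j, a ∈ C j := fun a ha => by
    obtain ⟨j, hj⟩ := (Fintype.equivFin comps).symm.surjective ⟨transComp H a, a, ha, rfl⟩
    exact ⟨j, by show a ∈ ((c j : comps) : Set _); rw [show c j = _ from hj]; exact mem_transComp_self ha⟩
  have hgrp : ∀ j, H ≤ Subgroup.normalizer (transGen H (C j) : Set (V ≃ₗ[ZMod p] V)) ∧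
      TGroup (linHom.comp (transGen H (C j)).subtype) (C j) := fun j => by
    obtain ⟨a, ha, e⟩ := hC j
    rw [e]
    exact component_group hp2 hOp hHT hTp ha
  have horth : ∀ i j, i ≠ j → ∀ a ∈ C i, ∀ b ∈ C j, a.2 b.1 = 0 ∧ b.2 a.1 = 0 := by
    intro i j hij a ha b hb
    obtain ⟨a₀, ha₀, ei⟩ := hC i
    obtain ⟨b₀, hb₀, ej⟩ := hC j
    rw [ei] at ha; rw [ej] at hb
    refine orth_of_ne_comp hp2 hOp ha.1 hb.1 fun h => hij (hCinj ?_)
    rw [ei, ej, ← transComp_eq hb₀ hb, transComp_eq ha.1 h, transComp_eq ha₀ ha]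
  have hWC : ∀ i j, i ≠ j → centreSpan (C i) ≤ axisMeet (C j) := fun i j hij =>
    span_le.mpr (by
      rintro v ⟨φ, hφ⟩
      exact mem_axisMeet.mpr fun b hb => (horth i j hij _ hφ b hb).2)
  set W : Fin (n + 1) → Submodule (ZMod p) V := Fin.cases (⨅ j, axisMeet (C j)) (fun j => centreSpan (C j)) with hW
  have hW0 : W 0 = ⨅ j, axisMeet (C j) := rfl
  have hWs : ∀ j, W (Fin.succ j) = centreSpan (C j) := fun j => rfl
  have hWle : ∀ j (i : Fin (n + 1)), i ≠ j.succ → W i ≤ axisMeet (C j) := by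
    intro j i hi
    refine Fin.cases (fun _ => ?_) (fun i' hi' => ?_) i hi
    · exact iInf_le _ j
    · exact hWC i' j fun h => hi' (by rw [h])
  have hfix : ∀ j, transGen H (C j) ≤ fixingGroup (axisMeet (C j) : Set V) := fun j h hh x hx =>
    (hgrp j).2.fix_axisMeet ⟨h, hh⟩ x hx
  have hKW : ∀ j, ∀ h ∈ transGen H (C j), ∀ i : Fin (n + 1), i ≠ j.succ → ∀ v ∈ W i, h v = v :=
    fun j h hh i hi v hv => hfix j hh v (hWle j i hi hv)
  have hsup : (⨆ j, transGen H (C j)) = H := by
    refine le_antisymm (iSup_le fun j => transGen_le _) ?_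
    conv_lhs => rw [hHT]
    rw [Subgroup.closure_le]
    intro t ht
    obtain ⟨b, hb, he⟩ := hTp t ht
    obtain ⟨j, hj⟩ := hCsurj b hb
    refine Subgroup.mem_iSup_of_mem j ?_
    obtain ⟨a, ha, e⟩ := hC j
    exact mem_transGen (fun c hc => (e ▸ hc : c ∈ transComp H a).1) hj he
  refine ⟨n, W, fun j => transGen H (C j), ?_, ?_, ?_, fun j => ⟨transGen_le _, ?_⟩, hsup, ?_, ?_, hKW, fun j => ?_⟩
  · obtain ⟨b, hb, -⟩ := hTp t₀ ht₀
    obtain ⟨j, -⟩ := hCsurj b hb
    exact j.pos
  · -- internal sum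
    rw [DirectSum.isInternal_submodule_iff_iSupIndep_and_iSup_eq_top]
    constructor
    · rw [iSupIndep_iff_finset_sum_eq_zero_imp_eq_zero]
      intro s v hv hsum
      have hsucc : ∀ j : Fin n, j.succ ∈ s → v j.succ = 0 := by
        intro j hj
        have h1 : v j.succ ∈ axisMeet (C j) := by
          have e := Finset.add_sum_erase s v hj
          rw [hsum] at e
          rw [eq_neg_of_add_eq_zero_left e]
          exact neg_mem (sum_mem fun i hi => hWle j i (Finset.ne_of_mem_erase hi) (hv i (Finset.mem_of_mem_erase hi)))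
        exact disjoint_def.mp ((hgrp j).2.isCompl hp2).disjoint _ (hv _ hj) h1
      intro i hi
      refine Fin.cases (fun h0 => ?_) (fun j hj => hsucc j hj) i hi
      rw [← Finset.add_sum_erase s v h0, Finset.sum_eq_zero (fun i hi => ?_), add_zero] at hsum
      · exact hsum
      · obtain ⟨j, rfl⟩ := Fin.exists_succ_eq.mpr (Finset.ne_of_mem_erase hi)
        exact hsucc j (Finset.mem_of_mem_erase hi)
    · rw [eq_top_iff]
      intro x _
      have hdec : ∀ j, ∃ y ∈ centreSpan (C j), x - y ∈ axisMeet (C j) := fun j => by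
        have hx : x ∈ centreSpan (C j) ⊔ axisMeet (C j) :=
          ((hgrp j).2.isCompl hp2).sup_eq_top ▸ Submodule.mem_top
        obtain ⟨y, hy, z, hz, rfl⟩ := Submodule.mem_sup.mp hx
        exact ⟨y, hy, by simpa using hz⟩
      choose y hy hy' using hdec
      have h0 : x - ∑ j, y j ∈ W 0 := by
        rw [hW0, Submodule.mem_iInf]
        intro j
        rw [← Finset.add_sum_erase _ y (Finset.mem_univ j), ← sub_sub]
        exact sub_mem (hy' j) (sum_mem fun i hi => hWC i j (Finset.ne_of_mem_erase hi) (hy i))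
      rw [show x = (x - ∑ j, y j) + ∑ j, y j by abel]
      exact add_mem (Submodule.mem_iSup_of_mem 0 h0)
        (sum_mem fun j _ => Submodule.mem_iSup_of_mem j.succ (hy j))
  · -- invariance
    intro h hh i
    have key : ∀ g ∈ H, ∀ v ∈ W i, g v ∈ W i := by
      intro g hg
      suffices H ≤ ({ carrier := {g : V ≃ₗ[ZMod p] V | (W i).map (g : V →ₗ[ZMod p] V) = W i}
                      mul_mem' := fun {g g'} hg hg' => by
                        show (W i).map ((g : V →ₗ[ZMod p] V) ∘ₗ (g' : V →ₗ[ZMod p] V)) = W i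
                        rw [Submodule.map_comp, hg', hg]
                      one_mem' := Submodule.map_id _
                      inv_mem' := fun {g} hg => by
                        show (W i).map ((g⁻¹ : V ≃ₗ[ZMod p] V) : V →ₗ[ZMod p] V) = W i
                        conv_lhs => rw [← hg]
                        rw [← Submodule.map_comp, show ((g⁻¹ : V ≃ₗ[ZMod p] V) : V →ₗ[ZMod p] V) ∘ₗ
                          (g : V →ₗ[ZMod p] V) = LinearMap.id from LinearMap.ext fun x => g.symm_apply_apply x,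
                          Submodule.map_id] } : Subgroup (V ≃ₗ[ZMod p] V)) from
        fun v hv => (this hg).le ⟨v, hv, rfl⟩
      rw [← hsup]
      refine iSup_le fun j g hg => ?_
      have hstable : ∀ g ∈ transGen H (C j), ∀ v ∈ W i, g v ∈ W i := by
        intro g hg v hv
        by_cases hi : i = j.succ
        · subst hi; exact (hgrp j).2.map_centreSpan ⟨g, hg⟩ v hv
        · rw [hKW j g hg i hi v hv]; exact hv
      refine le_antisymm ?_ fun v hv => ⟨g⁻¹ v, hstable _ (inv_mem hg) v hv, g.apply_symm_apply v⟩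
      rintro _ ⟨v, hv, rfl⟩
      exact hstable g hg v hv
    refine le_antisymm ?_ fun v hv => ⟨h⁻¹ v, key _ (inv_mem hh) v hv, h.apply_symm_apply v⟩
    rintro _ ⟨v, hv, rfl⟩
    exact key h hh v hv
  · exact (Subgroup.normal_subgroupOf_iff_le_normalizer (transGen_le _)).mpr (hgrp j).1
  · -- trivial intersections
    intro j
    rw [eq_bot_iff]
    rintro g ⟨hgj, hgo⟩
    have h1 : g ∈ fixingGroup (centreSpan (C j) : Set V) := by
      have hle : (⨆ j' ∈ {j' : Fin n | j' ≠ j}, transGen H (C j')) ≤ fixingGroup (centreSpan (C j) : Set V) :=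
        iSup₂_le fun i hi h hh x hx => hfix i hh x (hWC j i (Ne.symm hi) hx)
      exact hle hgo
    rw [Subgroup.mem_bot]
    refine LinearEquiv.ext fun x => ?_
    have hx : x ∈ centreSpan (C j) ⊔ axisMeet (C j) :=
      ((hgrp j).2.isCompl hp2).sup_eq_top ▸ Submodule.mem_top
    obtain ⟨y, hy, z, hz, rfl⟩ := Submodule.mem_sup.mp hx
    rw [map_add, h1 y hy, hfix j hgj z hz]
    rfl
  · -- commuting
    intro i j hij a ha b hb
    have hle : transGen H (C i) ≤ Subgroup.centralizer (transGen H (C j) : Set (V ≃ₗ[ZMod p] V)) := by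
      refine (Subgroup.closure_le _).mpr ?_
      rintro s ⟨-, x, hx, hs⟩
      rw [SetLike.mem_coe, Subgroup.mem_centralizer_iff]
      have hle' : transGen H (C j) ≤ Subgroup.centralizer {s} := by
        refine (Subgroup.closure_le _).mpr ?_
        rintro t ⟨-, y, hy, ht⟩
        obtain ⟨h1, h2⟩ := horth i j hij x hx y hy
        rw [SetLike.mem_coe, Subgroup.mem_centralizer_singleton_iff]
        refine linHom_injective ?_
        rw [map_mul, map_mul, ht, hs]
        refine LinearMap.ext fun z => ?_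
        simp only [Module.End.mul_apply, tlin_apply, map_add, map_smul, h1, h2, smul_zero, add_zero, zero_smul]
        abel
      exact fun t ht => Subgroup.mem_centralizer_singleton_iff.mp (hle' ht)
    exact (Subgroup.mem_centralizer_iff.mp (hle ha) b hb).symm
  · exact component_action hp2 (hgrp j).2 _ (hWs j)

end Cfsg.Lib.McLaughlin
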