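import Cfsg.Agent.RootSub.McLaughlin.Classify

/-!
# Transvection groups without normal `p`-subgroups

`V` is the direct sum of the span of the centres and the intersection of the axes.
-/

set_option autoImplicit false
set_option linter.unusedSectionVars false
set_option linter.unusedVariables false

namespace Cfsg.Lib.McLaughlin

open Submodule

section Tlin

variable {k : Type*} [Field k] {V : Type*} [AddCommGroup V] [Module k V]

/-- The linear map of a transvection. -/
def tlin (a : V × Module.Dual k V) : Module.End k V := 1 + a.2.smulRight a.1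

theorem tlin_apply (a : V × Module.Dual k V) (x : V) : tlin a x = x + a.2 x • a.1 := by simp [tlin]

theorem tlin_add_fst {v w : V} {φ : Module.Dual k V} (h : φ w = 0) :
    tlin (v, φ) * tlin (w, φ) = tlin (v + w, φ) :=
  LinearMap.ext fun x => by simp [Module.End.mul_apply, tlin_apply, h]; abel

theorem tlin_add_snd {v : V} {φ μ : Module.Dual k V} (h : φ v = 0) :
    tlin (v, φ) * tlin (v, μ) = tlin (v, φ + μ) :=
  LinearMap.ext fun x => by simp [Module.End.mul_apply, tlin_apply, h]; module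

theorem tlin_neg_mul {a : V × Module.Dual k V} (h : a.2 a.1 = 0) : tlin (-a.1, a.2) * tlin a = 1 :=
  LinearMap.ext fun x => by simp [Module.End.mul_apply, tlin_apply, h]

theorem tlin_conj {a b : V × Module.Dual k V} (hb : b.2 b.1 = 0) :
    tlin b * tlin a * tlin (-b.1, b.2) = tlin (tconj b a) :=
  LinearMap.ext fun x => by
    simp [Module.End.mul_apply, tlin_apply, tconj, hb]
    module

theorem tlin_inv_eq {G : Type*} [Group G] (f : G →* Module.End k V) {g : G} {a : V × Module.Dual k V}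
    (h : a.2 a.1 = 0) (hg : f g = tlin a) : f g⁻¹ = tlin (-a.1, a.2) := by
  have e1 : f g * f g⁻¹ = 1 := by rw [← map_mul, mul_inv_cancel, map_one]
  have e2 : tlin (-a.1, a.2) * f g = 1 := by rw [hg]; exact tlin_neg_mul h
  exact (left_inv_eq_right_inv e2 e1).symm

theorem tlin_pow {v : V} {φ : Module.Dual k V} (h : φ v = 0) (n : ℕ) :
    tlin (v, φ) ^ n = tlin ((n : k) • v, φ) := by
  induction n with
  | zero => exact LinearMap.ext fun x => by simp [tlin_apply]
  | succ n ih => rw [pow_succ, ih, tlin_add_fst h, Nat.cast_succ, add_smul, one_smul]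

theorem tlin_swap (c : k) (v : V) (φ : Module.Dual k V) : tlin (c • v, φ) = tlin (v, c • φ) :=
  LinearMap.ext fun x => by simp [tlin_apply, smul_smul, mul_comm]

theorem tlin_inj_fst {a b : V × Module.Dual k V} (h : tlin a = tlin b) {x : V} (hx : a.2 x = b.2 x) (hx0 : a.2 x ≠ 0) :
    a.1 = b.1 := by
  have := LinearMap.congr_fun h x
  rw [tlin_apply, tlin_apply, add_left_cancel_iff, hx] at this
  exact (smul_right_injective V (hx ▸ hx0)) this

theorem one_add_pow_of_cube {R : Type*} [Ring R] {D : R} (h : D * D * D = 0) (n : ℕ) :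
    (1 + D) ^ n = 1 + (n : R) * D + (n.choose 2 : ℕ) * (D * D) := by
  induction n with
  | zero => simp
  | succ n ih =>
    rw [pow_succ, ih, show (n + 1).choose 2 = n + n.choose 2 by rw [Nat.choose_succ_succ', Nat.choose_one_right]]
    push_cast
    have h' : ((n.choose 2 : ℕ) : R) * (D * D) * D = 0 := by rw [mul_assoc, h, mul_zero]
    simp only [add_mul, mul_add, one_mul, mul_one, h']
    noncomm_ring

theorem one_add_pow_prime {p : ℕ} [Fact p.Prime] {V : Type*} [AddCommGroup V] [Module (ZMod p) V] (hp : p ≠ 2)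
    {D : Module.End (ZMod p) V} (h : D * D * D = 0) : (1 + D) ^ p = 1 := by
  have hp' := Fact.out (p := p.Prime)
  have cast0 : ∀ m : ℕ, p ∣ m → (m : Module.End (ZMod p) V) = 0 := fun m hm => by
    refine LinearMap.ext fun x => ?_
    rw [Module.End.natCast_apply, ← Nat.cast_smul_eq_nsmul (ZMod p), (ZMod.natCast_eq_zero_iff m p).mpr hm,
      zero_smul, LinearMap.zero_apply]
  rw [one_add_pow_of_cube h, cast0 p dvd_rfl, cast0 _ (hp'.dvd_choose_self two_ne_zero (lt_of_le_of_ne hp'.two_le (Ne.symm hp)))]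
  simp

end Tlin

variable {p : ℕ} [Fact p.Prime] {V : Type*} [AddCommGroup V] [Module (ZMod p) V] [FiniteDimensional (ZMod p) V]
variable {G : Type*} [Group G]

/-- A group generated by a connected system of transvections, without normal `p`-subgroups. -/
structure TGroup (E : G →* Module.End (ZMod p) V) (R : Set (V × Module.Dual (ZMod p) V)) : Prop where
  inj : Function.Injective E
  cl : TClosed R
  add_fst : ∀ a ∈ R, ∀ b ∈ R, a.2 = b.2 → a.1 + b.1 ≠ 0 → (a.1 + b.1, a.2) ∈ R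
  add_snd : ∀ a ∈ R, ∀ b ∈ R, a.1 = b.1 → a.2 + b.2 ≠ 0 → (a.1, a.2 + b.2) ∈ R
  connected : ∀ a ∈ R, ∀ b ∈ R, Relation.ReflTransGen (TStep R) a b
  partner : ∀ a ∈ R, ∃ b ∈ R, TAdj a b
  real : ∀ a ∈ R, ∃ g, E g = tlin a
  gen : Subgroup.closure {g | ∃ a ∈ R, E g = tlin a} = ⊤
  core : ∀ N : Subgroup G, N.Normal → IsPGroup p N → N = ⊥
  nonempty : R.Nonempty

/-- The span of the centres. -/
abbrev centreSpan (R : Set (V × Module.Dual (ZMod p) V)) : Submodule (ZMod p) V :=
  span (ZMod p) {v | ∃ φ, (v, φ) ∈ R}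

/-- The span of the axes. -/
abbrev axisSpan (R : Set (V × Module.Dual (ZMod p) V)) : Submodule (ZMod p) (Module.Dual (ZMod p) V) :=
  span (ZMod p) {φ | ∃ v, (v, φ) ∈ R}

/-- The intersection of the axes. -/
abbrev axisMeet (R : Set (V × Module.Dual (ZMod p) V)) : Submodule (ZMod p) V := (axisSpan R).dualCoannihilator

/-- The common part, inside the span of the centres. -/
abbrev centreRad (R : Set (V × Module.Dual (ZMod p) V)) : Submodule (ZMod p) (centreSpan R) :=
  (axisMeet R).comap (centreSpan R).subtype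

variable {E : G →* Module.End (ZMod p) V} {R : Set (V × Module.Dual (ZMod p) V)}

theorem mem_axisMeet {x : V} : x ∈ axisMeet R ↔ ∀ a ∈ R, a.2 x = 0 := by
  rw [axisMeet, Submodule.mem_dualCoannihilator]
  refine ⟨fun h a ha => h a.2 (subset_span ⟨a.1, ha⟩), fun h φ hφ => ?_⟩
  induction hφ using Submodule.span_induction with
  | mem φ hφ => obtain ⟨v, hv⟩ := hφ; exact h _ hv
  | zero => rfl
  | add φ μ _ _ h1 h2 => simp [h1, h2]
  | smul c φ _ h1 => simp [h1]

theorem mem_centreSpan {a : V × Module.Dual (ZMod p) V} (ha : a ∈ R) : a.1 ∈ centreSpan R := subset_span ⟨a.2, ha⟩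

theorem TGroup.real_inv (hG : TGroup E R) {g : G} {a : V × Module.Dual (ZMod p) V} (ha : a ∈ R)
    (hg : E g = tlin a) : E g⁻¹ = tlin (-a.1, a.2) := by
  have h1 : E g⁻¹ * E g = 1 := by rw [← map_mul, inv_mul_cancel, map_one]
  have h2 : E g * E g⁻¹ = 1 := by rw [← map_mul, mul_inv_cancel, map_one]
  have h3 : tlin (-a.1, a.2) * E g = 1 := by rw [hg]; exact tlin_neg_mul (hG.cl.perp a ha)
  exact (left_inv_eq_right_inv h3 h2).symm

theorem TGroup.induct (hG : TGroup E R) {P : G → Prop} (h1 : P 1) (hmul : ∀ g h, P g → P h → P (g * h))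
    (hgen : ∀ g, ∀ a ∈ R, E g = tlin a → P g) (g : G) : P g := by
  have hg : g ∈ Subgroup.closure {g | ∃ a ∈ R, E g = tlin a} := hG.gen ▸ Subgroup.mem_top g
  induction hg using Subgroup.closure_induction'' with
  | mem x hx => obtain ⟨a, ha, e⟩ := hx; exact hgen x a ha e
  | inv_mem x hx =>
    obtain ⟨a, ha, e⟩ := hx
    refine hgen _ _ (hG.cl.smul_fst a ha (-1) (neg_ne_zero.mpr one_ne_zero)) ?_
    rw [hG.real_inv ha e, neg_one_smul]
  | one => exact h1
  | mul x y _ _ hx hy => exact hmul x y hx hy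

theorem TGroup.map_centreSpan (hG : TGroup E R) (g : G) : ∀ x ∈ centreSpan R, E g x ∈ centreSpan R := by
  induction g using hG.induct with
  | h1 => intro x hx; simpa using hx
  | hmul g h ihg ihh => intro x hx; rw [map_mul, Module.End.mul_apply]; exact ihg _ (ihh x hx)
  | hgen g a ha hg =>
    intro x hx
    rw [hg, tlin_apply]
    exact add_mem hx (Submodule.smul_mem _ _ (mem_centreSpan ha))

theorem TGroup.range_centreSpan (hG : TGroup E R) (g : G) : ∀ x, E g x - x ∈ centreSpan R := by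
  induction g using hG.induct with
  | h1 => intro x; simp
  | hmul g h ihg ihh =>
    intro x
    rw [map_mul, Module.End.mul_apply, show E g (E h x) - x = (E g (E h x) - E h x) + (E h x - x) by abel]
    exact add_mem (ihg _) (ihh x)
  | hgen g a ha hg =>
    intro x
    rw [hg, tlin_apply, add_sub_cancel_left]
    exact Submodule.smul_mem _ _ (mem_centreSpan ha)

theorem TGroup.fix_axisMeet (hG : TGroup E R) (g : G) : ∀ x ∈ axisMeet R, E g x = x := by
  induction g using hG.induct with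
  | h1 => intro x _; simp
  | hmul g h ihg ihh => intro x hx; rw [map_mul, Module.End.mul_apply, ihh x hx, ihg x hx]
  | hgen g a ha hg =>
    intro x hx
    rw [hg, tlin_apply, mem_axisMeet.mp hx a ha, zero_smul, add_zero]

theorem TGroup.conj_mem (hG : TGroup E R) (g : G) :
    ∀ a ∈ R, (E g a.1, a.2.comp (E g⁻¹)) ∈ R := by
  induction g using hG.induct with
  | h1 => intro a ha; simpa [Module.End.one_eq_id] using ha
  | hmul g h ihg ihh =>
    intro a ha
    have h1 := ihg _ (ihh a ha)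
    rw [mul_inv_rev, map_mul, map_mul, Module.End.mul_eq_comp, Module.End.mul_eq_comp]
    simpa [LinearMap.comp_assoc] using h1
  | hgen g b hb hg =>
    intro a ha
    have h1 := hG.cl.conj a ha b hb
    have e : (E g a.1, a.2.comp (E g⁻¹)) = tconj b a := by
      rw [hG.real_inv hb hg, hg]
      refine Prod.ext ?_ (LinearMap.ext fun x => ?_)
      · simp [tconj, tlin_apply]
      · simp [tconj, tlin_apply]; ring
    exact e ▸ h1

/-- The action on the centres modulo the common part of the axes. -/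
noncomputable def TGroup.rho (hG : TGroup E R) :
    G →* Module.End (ZMod p) (centreSpan R ⧸ centreRad R) where
  toFun g := (centreRad R).mapQ (centreRad R) ((E g).restrict (hG.map_centreSpan g)) (fun x hx => by
    change E g x ∈ axisMeet R
    rw [hG.fix_axisMeet g x hx]
    exact hx)
  map_one' := LinearMap.ext fun u => by
    obtain ⟨x, rfl⟩ := Submodule.mkQ_surjective _ u
    rw [Submodule.mkQ_apply, Submodule.mapQ_apply, Module.End.one_apply]
    congr 1
    exact Subtype.ext (by simp)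
  map_mul' g h := LinearMap.ext fun u => by
    obtain ⟨x, rfl⟩ := Submodule.mkQ_surjective _ u
    rw [Submodule.mkQ_apply, Module.End.mul_apply, Submodule.mapQ_apply, Submodule.mapQ_apply, Submodule.mapQ_apply]
    congr 1
    exact Subtype.ext (by simp [Module.End.mul_apply])

theorem TGroup.rho_mk (hG : TGroup E R) (g : G) (x : centreSpan R) :
    hG.rho g (Submodule.Quotient.mk x) = Submodule.Quotient.mk ⟨E g x, hG.map_centreSpan g x x.2⟩ := rfl

/-- `b` is the image of `a` modulo the common part of the axes. -/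
def TDesc (R : Set (V × Module.Dual (ZMod p) V)) (a : V × Module.Dual (ZMod p) V)
    (b : (centreSpan R ⧸ centreRad R) × Module.Dual (ZMod p) (centreSpan R ⧸ centreRad R)) : Prop :=
  (∃ h : a.1 ∈ centreSpan R, b.1 = Submodule.Quotient.mk ⟨a.1, h⟩) ∧
    ∀ x : centreSpan R, b.2 (Submodule.Quotient.mk x) = a.2 x

/-- The images of the members of `R`. -/
def imgSystem (R : Set (V × Module.Dual (ZMod p) V)) :
    Set ((centreSpan R ⧸ centreRad R) × Module.Dual (ZMod p) (centreSpan R ⧸ centreRad R)) :=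
  {b | ∃ a ∈ R, TDesc R a b}

/-- The transvections induced by the group. -/
def TGroup.actSystem (hG : TGroup E R) :
    Set ((centreSpan R ⧸ centreRad R) × Module.Dual (ZMod p) (centreSpan R ⧸ centreRad R)) :=
  {b | b.1 ≠ 0 ∧ b.2 ≠ 0 ∧ b.2 b.1 = 0 ∧ ∃ g, hG.rho g = tlin b}

theorem exists_desc {a : V × Module.Dual (ZMod p) V} (ha : a ∈ R) : ∃ b, TDesc R a b :=
  ⟨(Submodule.Quotient.mk ⟨a.1, mem_centreSpan ha⟩,
    (centreRad R).liftQ (a.2.comp (centreSpan R).subtype) fun x hx =>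
      LinearMap.mem_ker.mpr (mem_axisMeet.mp hx a ha)), ⟨_, rfl⟩, fun x => rfl⟩

theorem TGroup.desc_rho (hG : TGroup E R) {a : V × Module.Dual (ZMod p) V} {b} (hd : TDesc R a b) {g : G}
    (hg : E g = tlin a) : hG.rho g = tlin b := by
  obtain ⟨⟨h, h1⟩, h2⟩ := hd
  refine LinearMap.ext fun u => ?_
  obtain ⟨x, rfl⟩ := Submodule.mkQ_surjective _ u
  rw [Submodule.mkQ_apply, hG.rho_mk, tlin_apply, h1, h2, ← Submodule.Quotient.mk_smul, ← Submodule.Quotient.mk_add]
  congr 1
  exact Subtype.ext (by simp [hg, tlin_apply])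

theorem TGroup.desc_ne (hG : TGroup E R) {a : V × Module.Dual (ZMod p) V} (ha : a ∈ R) {b} (hd : TDesc R a b) :
    b.1 ≠ 0 ∧ b.2 ≠ 0 ∧ b.2 b.1 = 0 := by
  obtain ⟨⟨h, h1⟩, h2⟩ := hd
  obtain ⟨c, hc, hadj⟩ := hG.partner a ha
  refine ⟨fun h0 => hadj.2 ?_, fun h0 => hadj.1 ?_, ?_⟩
  · rw [h1, Submodule.Quotient.mk_eq_zero] at h0
    exact mem_axisMeet.mp h0 c hc
  · have := h2 ⟨c.1, mem_centreSpan hc⟩
    rw [h0] at this
    simpa using this.symm
  · rw [h1, h2]; exact hG.cl.perp a ha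

theorem TGroup.imgSystem_sub (hG : TGroup E R) : imgSystem R ⊆ hG.actSystem := by
  rintro b ⟨a, ha, hd⟩
  obtain ⟨h1, h2, h3⟩ := hG.desc_ne ha hd
  obtain ⟨g, hg⟩ := hG.real a ha
  exact ⟨h1, h2, h3, g, hG.desc_rho hd hg⟩

/-- The action on the centres modulo the common part is faithful. -/
theorem TGroup.rho_injective (hG : TGroup E R) (hp : p ≠ 2) : Function.Injective hG.rho := by
  have key : ∀ g ∈ hG.rho.ker, g = 1 := by
    suffices h : hG.rho.ker = ⊥ from fun g hg => by rwa [h, Subgroup.mem_bot] at hg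
    refine hG.core _ (MonoidHom.normal_ker _) fun g => ⟨1, Subtype.ext ?_⟩
    rw [pow_one, Subgroup.coe_pow, Subgroup.coe_one]
    refine hG.inj ?_
    have hg : hG.rho (g : G) = 1 := g.2
    set D := E (g : G) - 1 with hD
    have hD3 : D * D * D = 0 := by
      refine LinearMap.ext fun x => ?_
      have h1 : D x ∈ centreSpan R := by simpa [hD] using hG.range_centreSpan g x
      have h2 : D (D x) ∈ axisMeet R := by
        have := LinearMap.congr_fun hg (Submodule.Quotient.mk ⟨D x, h1⟩)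
        rw [hG.rho_mk, Module.End.one_apply, Submodule.Quotient.eq] at this
        have h3 : E (g : G) (D x) - D x ∈ axisMeet R := this
        simpa [hD] using h3
      rw [Module.End.mul_apply, Module.End.mul_apply, LinearMap.zero_apply]
      change E (g : G) (D (D x)) - (1 : Module.End (ZMod p) V) (D (D x)) = 0
      rw [hG.fix_axisMeet _ _ h2]
      simp
    have := one_add_pow_prime hp hD3
    rw [hD, add_sub_cancel, ← map_pow] at this
    rw [this, map_one]
  intro g h he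
  have hk : g⁻¹ * h ∈ hG.rho.ker := by
    rw [MonoidHom.mem_ker, map_mul, ← he, ← map_mul, inv_mul_cancel, map_one]
  exact inv_mul_eq_one.mp (key _ hk)

theorem TGroup.desc_inj (hG : TGroup E R) (hp : p ≠ 2) {a a' : V × Module.Dual (ZMod p) V} (ha : a ∈ R)
    (ha' : a' ∈ R) {b} (hd : TDesc R a b) (hd' : TDesc R a' b) : a.1 = a'.1 := by
  obtain ⟨g, hg⟩ := hG.real a ha
  obtain ⟨g', hg'⟩ := hG.real a' ha'
  have he : g = g' := hG.rho_injective hp ((hG.desc_rho hd hg).trans (hG.desc_rho hd' hg').symm)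
  obtain ⟨c, hc, hadj⟩ := hG.partner a ha
  refine tlin_inj_fst (by rw [← hg, he, hg'] : tlin a = tlin a') (x := c.1) ?_ hadj.1
  exact (hd.2 ⟨c.1, mem_centreSpan hc⟩).symm.trans (hd'.2 ⟨c.1, mem_centreSpan hc⟩)

theorem TGroup.full (hG : TGroup E R) (hp : p ≠ 2) : TFull (imgSystem R) hG.actSystem := by
  have hperp : ∀ {b}, b ∈ imgSystem R → b.2 b.1 = 0 := fun hb => (hG.imgSystem_sub hb).2.2.1
  have hconj : ∀ b ∈ imgSystem R, ∀ c ∈ imgSystem R, tconj c b ∈ imgSystem R := by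
    rintro b ⟨a, ha, ⟨h, h1⟩, h2⟩ c ⟨d, hd, ⟨h', h1'⟩, h2'⟩
    refine ⟨_, hG.cl.conj a ha d hd, ⟨mem_centreSpan (hG.cl.conj a ha d hd), ?_⟩, fun x => ?_⟩
    · simp only [tconj, h1, h1', h2', ← Submodule.Quotient.mk_smul, ← Submodule.Quotient.mk_add]
      congr 1
    · simp only [tconj, h1', LinearMap.sub_apply, LinearMap.smul_apply, h2, h2']
  have hsf : ∀ b ∈ imgSystem R, ∀ c : ZMod p, c ≠ 0 → (c • b.1, b.2) ∈ imgSystem R := by
    rintro b ⟨a, ha, ⟨h, h1⟩, h2⟩ c hc
    refine ⟨_, hG.cl.smul_fst a ha c hc, ⟨Submodule.smul_mem _ c h, ?_⟩, h2⟩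
    simp only [h1, ← Submodule.Quotient.mk_smul]
    rfl
  have hss : ∀ b ∈ imgSystem R, ∀ c : ZMod p, c ≠ 0 → (b.1, c • b.2) ∈ imgSystem R := by
    rintro b ⟨a, ha, h1, h2⟩ c hc
    exact ⟨_, hG.cl.smul_snd a ha c hc, h1, fun x => by simp [h2]⟩
  have hact_sf : ∀ b ∈ hG.actSystem, ∀ c : ZMod p, c ≠ 0 → (c • b.1, b.2) ∈ hG.actSystem := by
    rintro b ⟨h1, h2, h3, g, hg⟩ c hc
    refine ⟨smul_ne_zero hc h1, h2, by simp [h3], g ^ c.val, ?_⟩
    rw [map_pow, hg, show b = (b.1, b.2) from rfl, tlin_pow h3, ZMod.natCast_val, ZMod.cast_id]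
  refine ⟨⟨⟨fun b hb => (hG.imgSystem_sub hb).1, fun b hb => (hG.imgSystem_sub hb).2.1, fun b hb => hperp hb,
      hsf, hss, hconj⟩, ?_, ?_, ?_⟩, hG.imgSystem_sub, ⟨fun b hb => hb.1, fun b hb => hb.2.1, fun b hb => hb.2.2.1,
      hact_sf, ?_, ?_⟩, ?_, ?_⟩
  · rintro b ⟨a, ha, hd⟩ c ⟨a', ha', hd'⟩
    suffices ∀ y, Relation.ReflTransGen (TStep R) a y → y ∈ R ∧ ∀ e, TDesc R y e →
        Relation.ReflTransGen (TStep (imgSystem R)) b e from (this a' (hG.connected a ha a' ha')).2 c hd'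
    intro y hy
    induction hy with
    | refl =>
      refine ⟨ha, fun e he => ?_⟩
      have e1 : b = e := Prod.ext (hd.1.2.trans he.1.2.symm) (LinearMap.ext fun u => by
        obtain ⟨x, rfl⟩ := Submodule.mkQ_surjective _ u
        exact (hd.2 x).trans (he.2 x).symm)
      rw [e1]
    | @tail y z _ hstep ih =>
      obtain ⟨hz, hadj⟩ := hstep
      refine ⟨hz, fun e he => ?_⟩
      obtain ⟨f, hf⟩ := exists_desc ih.1
      refine (ih.2 f hf).tail ⟨⟨z, hz, he⟩, ?_, ?_⟩
      · rw [he.1.2, hf.2]; exact hadj.1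
      · rw [hf.1.2, he.2]; exact hadj.2
  · refine eq_top_iff.mpr fun u _ => ?_
    obtain ⟨⟨x, hx⟩, rfl⟩ := Submodule.mkQ_surjective _ u
    induction hx using Submodule.span_induction with
    | mem v hv =>
      obtain ⟨φ, hφ⟩ := hv
      obtain ⟨b, hb⟩ := exists_desc hφ
      exact subset_span ⟨b.2, (v, φ), hφ, ⟨mem_centreSpan hφ, rfl⟩, hb.2⟩
    | zero => exact Submodule.zero_mem _
    | add y z hy hz h1 h2 =>
      exact Submodule.add_mem _ (h1 Submodule.mem_top) (h2 Submodule.mem_top)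
    | smul c y hy h1 => exact Submodule.smul_mem _ c (h1 Submodule.mem_top)
  · intro u hu
    obtain ⟨x, rfl⟩ := Submodule.mkQ_surjective _ u
    rw [Submodule.mkQ_apply, Ne, Submodule.Quotient.mk_eq_zero] at hu
    obtain ⟨a, ha, hax⟩ : ∃ a ∈ R, a.2 x ≠ 0 := by
      by_contra h; push Not at h; exact hu (mem_axisMeet.mpr h)
    obtain ⟨b, hb⟩ := exists_desc ha
    exact ⟨b, ⟨a, ha, hb⟩, by rw [Submodule.mkQ_apply, hb.2]; exact hax⟩
  · rintro b ⟨h1, h2, h3, g, hg⟩ c hc
    obtain ⟨-, -, -, g', hg'⟩ := hact_sf b ⟨h1, h2, h3, g, hg⟩ c hc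
    exact ⟨h1, smul_ne_zero hc h2, by simp [h3], g', hg'.trans (tlin_swap c b.1 b.2)⟩
  · rintro a ⟨h1, h2, h3, g, hg⟩ b ⟨h1', h2', h3', h, hh⟩
    have hcancel : hG.rho h⁻¹ = tlin (-b.1, b.2) := tlin_inv_eq hG.rho h3' hh
    refine ⟨fun h0 => h1 ?_, fun h0 => h2 ?_, ?_, h * g * h⁻¹, ?_⟩
    · simp only [tconj] at h0
      have := congrArg b.2 h0
      simp [h3'] at this
      simpa [this] using h0
    · simp only [tconj] at h0
      have := LinearMap.congr_fun h0 b.1
      simp [h3'] at this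
      simpa [this] using h0
    · simp [tconj, h3, h3']; ring
    · rw [map_mul, map_mul, hh, hg, hcancel, tlin_conj h3']
  · rintro ⟨v, φ⟩ ⟨-, h2, h3, g, hg⟩ ⟨w, μ⟩ ⟨-, -, h3', h, hh⟩ he hne
    simp only at he hne h2 h3 h3' hg hh ⊢
    subst he
    exact ⟨hne, h2, by simp [h3, h3'], g * h, by rw [map_mul, hg, hh, tlin_add_fst h3']⟩
  · rintro ⟨v, φ⟩ ⟨h1, -, h3, g, hg⟩ ⟨w, μ⟩ ⟨-, -, h3', h, hh⟩ he hne
    simp only at he hne h1 h3 h3' hg hh ⊢
    subst he
    exact ⟨h1, hne, by simp [h3, h3'], g * h, by rw [map_mul, hg, hh, tlin_add_snd h3]⟩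

theorem two_ne_zero_zmod (hp : p ≠ 2) : (2 : ZMod p) ≠ 0 := by
  have h : ((2 : ℕ) : ZMod p) ≠ 0 := by
    rw [Ne, ZMod.natCast_eq_zero_iff]
    exact fun h => hp ((Nat.prime_dvd_prime_iff_eq Fact.out Nat.prime_two).mp h)
  exact_mod_cast h

theorem TGroup.nontrivial_quot (hG : TGroup E R) : Nontrivial (centreSpan R ⧸ centreRad R) := by
  obtain ⟨a, ha⟩ := hG.nonempty
  obtain ⟨b, hb⟩ := exists_desc ha
  exact ⟨b.1, 0, (hG.desc_ne ha hb).1⟩

/-- Every induced transvection comes from `R`. -/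
theorem TGroup.act_eq_img (hG : TGroup E R) (hp : p ≠ 2) : hG.actSystem ⊆ imgSystem R := by
  have h2 := two_ne_zero_zmod hp
  have hF := hG.full hp
  haveI := hG.nontrivial_quot
  rintro ⟨u, ψ⟩ hb
  obtain ⟨φ, hφ⟩ := hF.centre h2 (hb.1 : u ≠ 0)
  by_cases hdep : ∃ c : ZMod p, c ≠ 0 ∧ ψ = c • φ
  · obtain ⟨c, hc, rfl⟩ := hdep
    exact hF.sys.smul_snd _ hφ c hc
  rcases hF.classify h2 with hall | ⟨B, -, -, hB⟩
  · -- move the axis inside the group
    obtain ⟨hu, hψ, hψu⟩ : u ≠ 0 ∧ ψ ≠ 0 ∧ ψ u = 0 := ⟨hb.1, hb.2.1, hb.2.2.1⟩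
    have hφu : φ u = 0 := hF.sys.perp _ hφ
    have hφ0 : φ ≠ 0 := hF.sys.snd_ne _ hφ
    obtain ⟨w, hw, hw'⟩ : ∃ w, φ w = 1 ∧ ψ w = 1 := by
      obtain ⟨x, hx⟩ := exists_apply_ne hφ0
      obtain ⟨z, hz, hz'⟩ : ∃ z, φ z = 0 ∧ ψ z ≠ 0 := by
        by_contra hh; push Not at hh
        refine hdep ⟨ψ x / φ x, div_ne_zero (fun h0 => hψ ?_) hx, ?_⟩
        · refine LinearMap.ext fun y => ?_
          have := hh (y - (φ y / φ x) • x) (by simp [hx])
          simpa [h0] using this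
        · refine LinearMap.ext fun y => ?_
          have := hh (y - (φ y / φ x) • x) (by simp [hx])
          rw [map_sub, map_smul, sub_eq_zero, smul_eq_mul] at this
          rw [LinearMap.smul_apply, smul_eq_mul, this]; ring
      refine ⟨(φ x)⁻¹ • x + ((1 - (φ x)⁻¹ * ψ x) / ψ z) • z, ?_, ?_⟩
      · rw [map_add, map_smul, map_smul, hz, smul_zero, add_zero, smul_eq_mul, inv_mul_cancel₀ hx]
      · rw [map_add, map_smul, map_smul, smul_eq_mul, smul_eq_mul, div_mul_cancel₀ _ hz', add_sub_cancel]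
    have hw0 : w ≠ 0 := fun h0 => one_ne_zero (hw.symm.trans (by rw [h0, map_zero]))
    have hne : φ - ψ ≠ 0 := fun h0 => hdep ⟨1, one_ne_zero, (sub_eq_zero.mp h0).symm.trans (one_smul _ φ).symm⟩
    have hperp0 : (φ - ψ) w = 0 := by rw [LinearMap.sub_apply, hw, hw', sub_self]
    obtain ⟨-, -, hperp, g, hg⟩ : (w, φ - ψ) ∈ hG.actSystem := by
      rw [hall]
      exact ⟨hw0, hne, hperp0⟩
    have hginv : hG.rho g⁻¹ = tlin (-w, φ - ψ) := tlin_inv_eq hG.rho (a := (w, φ - ψ)) hperp hg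
    obtain ⟨a, ha, ⟨h, h1⟩, h2'⟩ := hφ
    simp only at h1 h2'
    refine ⟨(E g a.1, a.2.comp (E g⁻¹)), hG.conj_mem g a ha, ⟨hG.map_centreSpan g _ h, ?_⟩, fun x => ?_⟩
    · have e1 : hG.rho g u = u := by
        rw [hg, tlin_apply]
        simp only [LinearMap.sub_apply, hφu, hψu, sub_self, zero_smul, add_zero]
      rw [h1, hG.rho_mk] at e1
      exact h1.trans e1.symm
    · have e1 := h2' ⟨E g⁻¹ x, hG.map_centreSpan g⁻¹ x x.2⟩
      rw [← hG.rho_mk g⁻¹ x, hginv, tlin_apply] at e1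
      simp only [map_add, map_smul, map_neg, hw, LinearMap.sub_apply, smul_eq_mul] at e1
      simp only [LinearMap.comp_apply]
      rw [← e1]
      ring
  · obtain ⟨-, c, hc, hce⟩ : (u, ψ) ∈ formSystem B := hB ▸ hb
    obtain ⟨-, d, hd, hde⟩ : (u, φ) ∈ formSystem B := hB ▸ hF.sub hφ
    refine absurd ⟨c / d, div_ne_zero hc hd, ?_⟩ hdep
    simp only at hce hde
    rw [hce, hde, smul_smul, div_mul_cancel₀ _ hd]

/-- Centres are determined by their images. -/
theorem TGroup.centre_inj (hG : TGroup E R) (hp : p ≠ 2) {a a' : V × Module.Dual (ZMod p) V} (ha : a ∈ R)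
    (ha' : a' ∈ R) {b b'} (hd : TDesc R a b) (hd' : TDesc R a' b') (he : b.1 = b'.1) : a.1 = a'.1 := by
  by_cases hdep : ∃ c : ZMod p, c ≠ 0 ∧ b.2 = c • b'.2
  · obtain ⟨c, hc, hce⟩ := hdep
    exact hG.desc_inj (a' := (a'.1, c • a'.2)) hp ha (hG.cl.smul_snd a' ha' c hc) hd
      ⟨⟨hd'.1.1, he.trans hd'.1.2⟩, fun x => by simp [hce, hd'.2 x]⟩
  obtain ⟨h1, h2, h3⟩ := hG.desc_ne ha hd
  obtain ⟨-, h2', h3'⟩ := hG.desc_ne ha' hd'
  obtain ⟨g, hg⟩ := hG.real a ha
  obtain ⟨g', hg'⟩ := hG.real a' ha'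
  have hne : b.2 + b'.2 ≠ 0 := fun h0 => hdep ⟨-1, neg_ne_zero.mpr one_ne_zero, by
    rw [eq_neg_of_add_eq_zero_left h0]; exact (neg_one_smul (ZMod p) b'.2).symm⟩
  obtain ⟨c, hc, hdc⟩ := hG.act_eq_img hp ((hG.full hp).add_snd b (hG.imgSystem_sub ⟨a, ha, hd⟩) b'
    (hG.imgSystem_sub ⟨a', ha', hd'⟩) he hne)
  obtain ⟨g'', hg''⟩ := hG.real c hc
  have heq : g * g' = g'' := hG.rho_injective hp (by
    rw [map_mul, hG.desc_rho hd hg, hG.desc_rho hd' hg', hG.desc_rho hdc hg'',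
      show b' = (b.1, b'.2) from Prod.ext he.symm rfl, show b = (b.1, b.2) from rfl, tlin_add_snd h3])
  have hlin : tlin a * tlin a' = tlin c := by rw [← hg, ← hg', ← map_mul, heq, hg'']
  have hb' : ∀ z : V, z ∈ centreSpan R → c.2 z = a.2 z + a'.2 z := fun z hz => by
    rw [← hdc.2 ⟨z, hz⟩, ← hd.2 ⟨z, hz⟩, ← hd'.2 ⟨z, hz⟩]
    rfl
  -- two test vectors
  obtain ⟨x, hx, hx'⟩ : ∃ x : centreSpan R, b.2 (Submodule.Quotient.mk x) ≠ 0 ∧ b'.2 (Submodule.Quotient.mk x) = 0 := by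
    by_contra hh; push Not at hh
    obtain ⟨z, hz⟩ := exists_apply_ne h2'
    refine hdep ⟨b.2 z / b'.2 z, div_ne_zero (fun h0 => h2 ?_) hz, ?_⟩
    · refine LinearMap.ext fun y => ?_
      obtain ⟨y', hy'⟩ := Submodule.mkQ_surjective _ (y - (b'.2 y / b'.2 z) • z)
      rw [Submodule.mkQ_apply] at hy'
      by_contra hy
      exact hh y' (by rw [hy']; simpa [h0] using hy) (by rw [hy']; simp [hz])
    · refine LinearMap.ext fun y => ?_
      obtain ⟨y', hy'⟩ := Submodule.mkQ_surjective _ (y - (b'.2 y / b'.2 z) • z)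
      rw [Submodule.mkQ_apply] at hy'
      by_contra hy
      refine hh y' ?_ (by rw [hy']; simp [hz])
      rw [hy', map_sub, map_smul, smul_eq_mul, sub_ne_zero]
      intro h0
      apply hy
      rw [LinearMap.smul_apply, smul_eq_mul, h0]; ring
  obtain ⟨y, hy, hy'⟩ : ∃ y : centreSpan R, b'.2 (Submodule.Quotient.mk y) ≠ 0 ∧ b.2 (Submodule.Quotient.mk y) = 0 := by
    by_contra hh; push Not at hh
    obtain ⟨z, hz⟩ := exists_apply_ne h2'
    set x' := Submodule.Quotient.mk (p := centreRad R) x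
    have := hh
    obtain ⟨z', hz'⟩ := Submodule.mkQ_surjective _ (z - (b.2 z / b.2 x') • x')
    rw [Submodule.mkQ_apply] at hz'
    refine hh z' ?_ (by rw [hz']; simp [hx])
    rw [hz']
    simp [x', hx', hz]
  have hperp' : a.2 a'.1 = 0 := by
    have h := hd.2 ⟨a'.1, mem_centreSpan ha'⟩
    obtain ⟨⟨hm, e⟩, -⟩ := hd'
    rw [← e, ← he, h3] at h
    exact h.symm
  have ex := LinearMap.congr_fun hlin (x : V)
  simp only [Module.End.mul_apply, tlin_apply, map_add, map_smul, hperp', smul_zero, add_zero] at ex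
  rw [hd.2] at hx; rw [hd'.2] at hx'
  rw [hb' x x.2, hx', add_zero, zero_smul, add_zero, add_left_cancel_iff] at ex
  have ey := LinearMap.congr_fun hlin (y : V)
  simp only [Module.End.mul_apply, tlin_apply, map_add, map_smul, hperp', smul_zero, add_zero] at ey
  rw [hd'.2] at hy; rw [hd.2] at hy'
  rw [hb' y y.2, hy', zero_add, zero_smul, add_zero, add_left_cancel_iff] at ey
  exact (smul_right_injective V hx ex).trans ((smul_right_injective V hy ey).symm.trans (add_zero _))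

/-- The centres meet the common part of the axes trivially. -/
theorem TGroup.inf_eq_bot (hG : TGroup E R) (hp : p ≠ 2) : centreSpan R ⊓ axisMeet R = ⊥ := by
  classical
  have h2 := two_ne_zero_zmod hp
  have hF := hG.full hp
  have hall := hF.sys.all_centres h2
  set U := (centreSpan R ⧸ centreRad R)
  have hex : ∀ u : U, ∃ x : centreSpan R, Submodule.Quotient.mk x = u ∧ (u = 0 → x = 0) ∧
      (u ≠ 0 → ∃ φ, ((x : V), φ) ∈ R) := by
    intro u
    by_cases hu : u = 0
    · exact ⟨0, by simp [hu], fun _ => rfl, fun h => absurd hu h⟩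
    obtain ⟨ψ, a, ha, ⟨h, h1⟩, -⟩ := (hall u).resolve_left hu
    exact ⟨⟨a.1, h⟩, h1.symm, fun h0 => absurd h0 hu, fun _ => ⟨a.2, ha⟩⟩
  choose s hs hs0 hsR using hex
  have huniq : ∀ {u : U}, u ≠ 0 → ∀ a ∈ R, ∀ h : a.1 ∈ centreSpan R,
      Submodule.Quotient.mk ⟨a.1, h⟩ = u → (s u : V) = a.1 := by
    intro u hu a ha h he
    obtain ⟨φ, hφ⟩ := hsR u hu
    obtain ⟨b, hb⟩ := exists_desc hφ
    obtain ⟨b', hb'⟩ := exists_desc ha
    refine hG.centre_inj hp hφ ha hb hb' ?_
    rw [hb.1.2, hb'.1.2, he]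
    exact hs u
  have hsmul : ∀ (c : ZMod p) (u : U), s (c • u) = c • s u := by
    intro c u
    by_cases hcu : c • u = 0
    · rw [hs0 _ hcu]
      rcases smul_eq_zero.mp hcu with hc | hu
      · rw [hc, zero_smul]
      · rw [hs0 _ hu, smul_zero]
    · obtain ⟨hc, hu⟩ := smul_ne_zero_iff.mp hcu
      obtain ⟨φ, hφ⟩ := hsR u hu
      refine Subtype.ext (huniq hcu _ (hG.cl.smul_fst _ hφ c hc) (Submodule.smul_mem _ c (s u).2) ?_)
      rw [← hs u, ← Submodule.Quotient.mk_smul, hs u]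
      rfl
  -- the axes chosen at the centres
  have haxis : ∀ u : U, u ≠ 0 → ∃ ψ : Module.Dual (ZMod p) U, (∀ x : centreSpan R, ∃ φ, ((s u : V), φ) ∈ R ∧
      ψ (Submodule.Quotient.mk x) = φ x) ∧ ψ u = 0 ∧ ψ ≠ 0 := by
    intro u hu
    obtain ⟨φ, hφ⟩ := hsR u hu
    obtain ⟨b, hb⟩ := exists_desc hφ
    obtain ⟨h1, h2, h3⟩ := hG.desc_ne hφ hb
    refine ⟨b.2, fun x => ⟨φ, hφ, hb.2 x⟩, ?_, h2⟩
    rw [hb.1.2] at h3
    rwa [show Submodule.Quotient.mk ⟨(s u : V), hb.1.1⟩ = u from hs u] at h3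
  choose ax hax hax0 haxne using haxis
  have hadd : ∀ {u w : U} (hu : u ≠ 0), ax u hu w ≠ 0 → s (u + w) = s u + s w := by
    intro u w hu hne
    have hw : w ≠ 0 := fun h => hne (by simp [h])
    have hsum : u + w ≠ 0 := fun h => hne (by
      rw [eq_neg_of_add_eq_zero_right h, map_neg, hax0 u hu, neg_zero])
    obtain ⟨φ, hφ, he⟩ := hax u hu (s w)
    rw [hs w] at he
    obtain ⟨μ, hμ⟩ := hsR w hw
    rw [he] at hne
    have h1 := hG.cl.conj_scaled hμ hφ (φ (s w : V))⁻¹
    simp only [inv_mul_cancel₀ hne, one_smul] at h1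
    refine Subtype.ext ((huniq hsum _ h1 (add_mem (s w).2 (s u).2) ?_).trans (add_comm _ _))
    rw [show (⟨(s w : V) + (s u : V), _⟩ : centreSpan R) = s w + s u from rfl, Submodule.Quotient.mk_add, hs, hs,
      add_comm]
  have hlin : ∀ u v : U, s (u + v) = s u + s v := by
    intro u v
    by_cases hu : u = 0
    · rw [hs0 u hu, zero_add, hu, zero_add]
    by_cases hv : v = 0
    · rw [hs0 v hv, add_zero, hv, add_zero]
    by_cases huv : u + v = 0
    · rw [hs0 _ huv, eq_neg_of_add_eq_zero_left huv, ← neg_one_smul (ZMod p) v, hsmul, neg_one_smul, neg_add_cancel]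
    by_cases horth : ax u hu v = 0
    · obtain ⟨w, hw1, hw2, hw3⟩ := exists_ne_zero_three h2 (haxne u hu) (haxne v hv) (haxne _ huv)
      have e1 := hadd huv hw3
      have e2 := hadd hv hw2
      have e3 := hadd (w := v + w) hu (by rw [map_add, horth, zero_add]; exact hw1)
      rw [← add_assoc, e2, e1, ← add_assoc] at e3
      exact add_right_cancel e3
    · exact hadd hu horth
  let sl : U →ₗ[ZMod p] centreSpan R := { toFun := s, map_add' := hlin, map_smul' := hsmul }
  have hle : centreSpan R ≤ (LinearMap.range sl).map (centreSpan R).subtype := by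
    refine span_le.mpr ?_
    rintro v ⟨φ, hφ⟩
    obtain ⟨b, hb⟩ := exists_desc hφ
    exact ⟨sl b.1, ⟨b.1, rfl⟩, huniq (hG.desc_ne hφ hb).1 _ hφ _ hb.1.2.symm⟩
  rw [Submodule.eq_bot_iff]
  rintro x ⟨hxW, hxC⟩
  obtain ⟨_, ⟨u, rfl⟩, hyx⟩ := hle hxW
  have hu : u = 0 := by
    rw [← hs u, Submodule.Quotient.mk_eq_zero]
    change ((s u : centreSpan R) : V) ∈ axisMeet R
    rw [show ((s u : centreSpan R) : V) = x from hyx]
    exact hxC
  rw [← hyx, hu, map_zero, map_zero]

end Cfsg.Lib.McLaughlin
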