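import Mathlib

/-!
# Systems of transvections: every vector is a centre

Pairs `(v, φ)` stand for the transvections `x ↦ x + φ x • v`.
-/

set_option autoImplicit false
set_option linter.unusedSectionVars false
set_option linter.unusedVariables false

namespace Cfsg.Lib.McLaughlin

variable {k : Type*} [Field k] {V : Type*} [AddCommGroup V] [Module k V]

/-- Two transvections are adjacent when neither fixes the centre of the other. -/
def TAdj (a b : V × Module.Dual k V) : Prop := a.2 b.1 ≠ 0 ∧ b.2 a.1 ≠ 0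

/-- The transvection `a` conjugated by the transvection `b`. -/
def tconj (b a : V × Module.Dual k V) : V × Module.Dual k V :=
  (a.1 + b.2 a.1 • b.1, a.2 - a.2 b.1 • b.2)

/-- A set of transvections closed under conjugation and scaling. -/
structure TClosed (R : Set (V × Module.Dual k V)) : Prop where
  fst_ne : ∀ a ∈ R, a.1 ≠ 0
  snd_ne : ∀ a ∈ R, a.2 ≠ 0
  perp : ∀ a ∈ R, a.2 a.1 = 0
  smul_fst : ∀ a ∈ R, ∀ c : k, c ≠ 0 → (c • a.1, a.2) ∈ R
  smul_snd : ∀ a ∈ R, ∀ c : k, c ≠ 0 → (a.1, c • a.2) ∈ R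
  conj : ∀ a ∈ R, ∀ b ∈ R, tconj b a ∈ R

/-- A step in the graph on `R`. -/
def TStep (R : Set (V × Module.Dual k V)) (a b : V × Module.Dual k V) : Prop := b ∈ R ∧ TAdj a b

/-- A connected system whose centres span and whose axes separate points. -/
structure TSystem (R : Set (V × Module.Dual k V)) : Prop extends TClosed R where
  connected : ∀ a ∈ R, ∀ b ∈ R, Relation.ReflTransGen (TStep R) a b
  span : Submodule.span k {v | ∃ φ, (v, φ) ∈ R} = ⊤
  separates : ∀ z : V, z ≠ 0 → ∃ a ∈ R, a.2 z ≠ 0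

variable {R : Set (V × Module.Dual k V)}

/-- Zero or a centre. -/
def IsCentre (R : Set (V × Module.Dual k V)) (z : V) : Prop := z = 0 ∨ ∃ φ, (z, φ) ∈ R

theorem TClosed.conj_scaled (hR : TClosed R) {a b : V × Module.Dual k V} (ha : a ∈ R) (hb : b ∈ R) (s : k) :
    (a.1 + (s * b.2 a.1) • b.1, a.2 - (s * a.2 b.1) • b.2) ∈ R := by
  by_cases hs : s = 0
  · simpa [hs] using ha
  · have h := hR.conj a ha _ (hR.smul_fst b hb s hs)
    simpa [tconj, smul_smul, mul_comm] using h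

theorem TClosed.centre_move (hR : TClosed R) {b : V × Module.Dual k V} (hb : b ∈ R) {z : V}
    (hz : IsCentre R z) (s : k) : IsCentre R (z + (s * b.2 z) • b.1) := by
  rcases hz with rfl | ⟨φ, hφ⟩
  · exact Or.inl (by simp)
  · exact Or.inr ⟨_, hR.conj_scaled hφ hb s⟩

theorem TClosed.centre_smul (hR : TClosed R) {z : V} (hz : IsCentre R z) (c : k) : IsCentre R (c • z) := by
  by_cases hc : c = 0
  · exact Or.inl (by simp [hc])
  rcases hz with rfl | ⟨φ, hφ⟩
  · exact Or.inl (by simp)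
  · exact Or.inr ⟨φ, hR.smul_fst _ hφ c hc⟩

/-- A non-orthogonal pair of centres has all its sums as centres. -/
theorem TClosed.centre_add (hR : TClosed R) {a b : V × Module.Dual k V} (ha : a ∈ R) (hb : b ∈ R)
    (h : a.2 b.1 ≠ 0 ∨ b.2 a.1 ≠ 0) : IsCentre R (a.1 + b.1) := by
  rcases h with h | h
  · have := hR.centre_move ha (Or.inr ⟨b.2, hb⟩) (a.2 b.1)⁻¹
    rwa [inv_mul_cancel₀ h, one_smul, add_comm] at this
  · have := hR.centre_move hb (Or.inr ⟨a.2, ha⟩) (b.2 a.1)⁻¹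
    rwa [inv_mul_cancel₀ h, one_smul] at this

theorem TClosed.orth_of_not_centre (hR : TClosed R) {a b : V × Module.Dual k V} (ha : a ∈ R) (hb : b ∈ R)
    (h : ¬ IsCentre R (a.1 + b.1)) : a.2 b.1 = 0 ∧ b.2 a.1 = 0 :=
  ⟨by_contra fun h' => h (hR.centre_add ha hb (Or.inl h')), by_contra fun h' => h (hR.centre_add ha hb (Or.inr h'))⟩

/-- All sums of `a` with multiples of `c` are centres. -/
def GoodPair (R : Set (V × Module.Dual k V)) (a c : V) : Prop := ∀ t : k, IsCentre R (a + t • c)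

/-- The configuration used in the induction. -/
def BadConfig (R : Set (V × Module.Dual k V)) (c : V × Module.Dual k V) (z : V) : Prop :=
  ∃ a : V, ∃ b ∈ R, z = a + b.1 ∧ ¬ IsCentre R z ∧ GoodPair R a c.1 ∧ b.2 c.1 ≠ 0 ∧ c.2 b.1 ≠ 0

theorem TClosed.bad_perp (hR : TClosed R) {c : V × Module.Dual k V} (hc : c ∈ R) {z : V} {a : V}
    {b : V × Module.Dual k V} (hb : b ∈ R) (hz : z = a + b.1) (hnz : ¬ IsCentre R z) (hg : GoodPair R a c.1)
    (hbc : b.2 c.1 ≠ 0) : c.2 z = 0 := by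
  subst hz
  have haC : IsCentre R a := by simpa using hg 0
  rcases haC with rfl | ⟨α, hα⟩
  · exact absurd (Or.inr ⟨b.2, by simpa using hb⟩) hnz
  obtain ⟨-, hba⟩ := hR.orth_of_not_centre hα hb hnz
  -- the centre `b - c`
  have h1 := hR.smul_fst _ (hR.conj_scaled hc hb (-(b.2 c.1)⁻¹)) (-1) (neg_ne_zero.mpr one_ne_zero)
  set γ' := c.2 - (-(b.2 c.1)⁻¹ * c.2 b.1) • b.2 with hγ'
  have e : (-1 : k) • (c.1 + (-(b.2 c.1)⁻¹ * b.2 c.1) • b.1) = b.1 - c.1 := by
    rw [neg_mul, inv_mul_cancel₀ hbc]; module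
  rw [e] at h1
  rcases hg 1 with h0 | ⟨ξ, hξ⟩
  · rw [one_smul] at h0
    refine absurd (Or.inr ⟨γ', ?_⟩) hnz
    have : a + b.1 = b.1 - c.1 := by
      rw [eq_neg_of_add_eq_zero_left h0]; abel
    rwa [this]
  rw [one_smul] at hξ
  have hsum : a + c.1 + (b.1 - c.1) = a + b.1 := by abel
  obtain ⟨-, h2⟩ := hR.orth_of_not_centre hξ h1 (by simpa only [hsum] using hnz)
  have h3 : γ' (a + b.1) = 0 := by
    rw [← hsum, map_add, h2, zero_add]
    exact hR.perp _ h1
  simp only [hγ', LinearMap.sub_apply, LinearMap.smul_apply, smul_eq_mul] at h3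
  rw [map_add b.2, hba, hR.perp b hb, add_zero, mul_zero, sub_zero] at h3
  exact h3

theorem TClosed.bad_step (hR : TClosed R) (h2 : (2 : k) ≠ 0) {c w : V × Module.Dual k V} (hc : c ∈ R) (hw : w ∈ R)
    {z : V} (hbad : BadConfig R c z) (hwz : w.2 z ≠ 0) :
    c.2 w.1 = 0 ∧ ∃ m : k, m ≠ 0 ∧ BadConfig R c (z + m • w.1) := by
  obtain ⟨a, b, hb, hz, hnz, hg, hbc, hcb⟩ := hbad
  have hzc : c.2 z = 0 := hR.bad_perp hc hb hz hnz hg hbc
  have hmove : ∀ m : k, ¬ IsCentre R (z + m • w.1) := by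
    intro m hm
    have := hR.centre_move hw hm (-m * (w.2 z)⁻¹)
    rw [map_add, map_smul, hR.perp w hw, smul_zero, add_zero, mul_assoc, inv_mul_cancel₀ hwz, mul_one,
      neg_smul, add_neg_cancel_right] at this
    exact hnz this
  -- it suffices to produce a decomposition of a translate of `z`
  have finish : ∀ m : k, m ≠ 0 → ∀ a' : V, ∀ b' ∈ R, z + m • w.1 = a' + b'.1 → GoodPair R a' c.1 →
      b'.2 c.1 ≠ 0 → (c.2 w.1 = 0 → c.2 b'.1 ≠ 0) →
      c.2 w.1 = 0 ∧ ∃ m : k, m ≠ 0 ∧ BadConfig R c (z + m • w.1) := by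
    intro m hm a' b' hb' he hg' hbc' hcb'
    have h := hR.bad_perp hc hb' he (hmove m) hg' hbc'
    rw [map_add, hzc, zero_add, map_smul, smul_eq_mul, mul_eq_zero] at h
    have hw0 := h.resolve_left hm
    exact ⟨hw0, m, hm, a', b', hb', he, hmove m, hg', hbc', hcb' hw0⟩
  by_cases hwc : w.2 c.1 = 0
  · refine finish (w.2 z) hwz (a + w.2 a • w.1) _ (hR.conj b hb w hw) ?_ (fun t => ?_) ?_ (fun h0 => ?_)
    · simp only [tconj, hz, map_add, add_smul]; abel
    · have := hR.centre_move hw (hg t) 1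
      rw [one_mul, map_add, map_smul, hwc, smul_zero, add_zero] at this
      rwa [add_right_comm]
    · simpa [tconj, hwc] using hbc
    · simpa [tconj, h0] using hcb
  · -- move the decomposition along `c` so that `w` fixes the first summand
    set t := -(w.2 a) / w.2 c.1 with ht
    have hwa : w.2 (a + t • c.1) = 0 := by
      rw [map_add, map_smul, smul_eq_mul, ht, div_mul_cancel₀ _ hwc, add_neg_cancel]
    have hb1 := hR.conj_scaled hb hc (-t / c.2 b.1)
    rw [div_mul_cancel₀ _ hcb] at hb1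
    set β1 := b.2 - (-t / c.2 b.1 * b.2 c.1) • c.2 with hβ1
    have hb1c : β1 c.1 ≠ 0 := by
      simpa [hβ1, hR.perp c hc] using hbc
    have hcb1 : c.2 (b.1 + (-t) • c.1) ≠ 0 := by
      simpa [map_add, hR.perp c hc] using hcb
    have hz1 : z = (a + t • c.1) + (b.1 + (-t) • c.1) := by rw [hz]; module
    have hwb1 : w.2 (b.1 + (-t) • c.1) = w.2 z := by
      conv_rhs => rw [hz1, map_add, hwa, zero_add]
    have hg1 : GoodPair R (a + t • c.1) c.1 := fun u => by
      have := hg (t + u); rwa [add_smul, ← add_assoc] at this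
    -- one of the two scalars `±1` keeps `b` adjacent
    obtain ⟨m, hm, hm'⟩ : ∃ m : k, m ≠ 0 ∧ β1 c.1 - m * β1 w.1 * w.2 c.1 ≠ 0 := by
      by_cases h1 : β1 c.1 - 1 * β1 w.1 * w.2 c.1 ≠ 0
      · exact ⟨1, one_ne_zero, h1⟩
      · push Not at h1
        refine ⟨-1, neg_ne_zero.mpr one_ne_zero, fun h3 => hb1c ?_⟩
        have : (2 : k) * β1 c.1 = 0 := by linear_combination h1 + h3
        exact (mul_eq_zero.mp this).resolve_left h2
    refine finish (m * w.2 z) (mul_ne_zero hm hwz) (a + t • c.1) _ (hR.conj_scaled hb1 hw m) ?_ hg1 ?_ (fun h0 => ?_)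
    · simp only [hwb1]; rw [hz]; module
    · simpa [mul_assoc] using hm'
    · simpa [map_add, h0] using hcb1

theorem TSystem.no_bad (hR : TSystem R) (h2 : (2 : k) ≠ 0) {c : V × Module.Dual k V} (hc : c ∈ R) {z : V} :
    ¬ BadConfig R c z := by
  intro hbad
  obtain ⟨w, hw, hwz⟩ := hR.separates z (fun h => by
    obtain ⟨a, b, hb, -, hnz, -⟩ := hbad
    exact hnz (Or.inl h))
  have key : ∀ y, Relation.ReflTransGen (TStep R) w y → y ∈ R ∧ ∃ z', BadConfig R c z' ∧ y.2 z' ≠ 0 := by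
    intro y hy
    induction hy with
    | refl => exact ⟨hw, z, hbad, hwz⟩
    | @tail y y' _ hstep ih =>
      obtain ⟨hyR, z', hbad', hyz⟩ := ih
      obtain ⟨hy', hadj⟩ := hstep
      refine ⟨hy', ?_⟩
      by_cases h : y'.2 z' = 0
      · obtain ⟨-, m, hm, hbad''⟩ := hR.toTClosed.bad_step h2 hc hyR hbad' hyz
        refine ⟨_, hbad'', ?_⟩
        rw [map_add, h, zero_add, map_smul, smul_eq_mul]
        exact mul_ne_zero hm hadj.2
      · exact ⟨z', hbad', h⟩
  obtain ⟨-, z', ⟨a, b, hb, hz', hnz', hg, hbc, -⟩, hcz⟩ := key c (hR.connected w hw c hc)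
  exact hcz (hR.toTClosed.bad_perp hc hb hz' hnz' hg hbc)

/-- In a connected system every vector is a centre. -/
theorem TSystem.all_centres (hR : TSystem R) (h2 : (2 : k) ≠ 0) (z : V) : IsCentre R z := by
  have hC := hR.toTClosed
  have hsum : ∀ a ∈ R, ∀ b, Relation.ReflTransGen (TStep R) a b → b ∈ R ∧ GoodPair R a.1 b.1 := by
    intro a ha b hab
    induction hab with
    | refl =>
      refine ⟨ha, fun t => ?_⟩
      rw [show a.1 + t • a.1 = (1 + t) • a.1 by module]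
      exact hC.centre_smul (Or.inr ⟨a.2, ha⟩) _
    | @tail c b _ hstep ih =>
      obtain ⟨hcR, hg⟩ := ih
      obtain ⟨hbR, hadj⟩ := hstep
      refine ⟨hbR, fun t => ?_⟩
      by_contra hn
      by_cases ht : t = 0
      · exact hn (by simpa [ht, IsCentre] using (Or.inr ⟨a.2, ha⟩ : IsCentre R a.1))
      · exact hR.no_bad h2 hcR ⟨a.1, _, hC.smul_fst b hbR t ht, rfl, hn, hg, hadj.2,
          by simpa using mul_ne_zero ht hadj.1⟩
  have hz : z ∈ Submodule.span k {v | ∃ φ, (v, φ) ∈ R} := hR.span ▸ Submodule.mem_top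
  induction hz using Submodule.span_induction with
  | mem v hv => exact Or.inr hv
  | zero => exact Or.inl rfl
  | add x y _ _ hx hy =>
    rcases hx with rfl | ⟨φ, hx⟩
    · simpa using hy
    rcases hy with rfl | ⟨μ, hy⟩
    · simpa [IsCentre] using (Or.inr ⟨φ, hx⟩ : IsCentre R x)
    simpa using (hsum _ hx _ (hR.connected _ hx _ hy)).2 1
  | smul c x _ hx => exact hC.centre_smul hx c

theorem exists_ne_zero_three {φ μ ψ : Module.Dual k V} (h2 : (2 : k) ≠ 0) (hφ : φ ≠ 0) (hμ : μ ≠ 0) (hψ : ψ ≠ 0) :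
    ∃ w, φ w ≠ 0 ∧ μ w ≠ 0 ∧ ψ w ≠ 0 := by
  obtain ⟨x, hx⟩ : ∃ x, φ x ≠ 0 := by
    by_contra h; push Not at h; exact hφ (LinearMap.ext h)
  obtain ⟨y, hy⟩ : ∃ y, μ y ≠ 0 := by
    by_contra h; push Not at h; exact hμ (LinearMap.ext h)
  obtain ⟨w₃, hw₃⟩ : ∃ w, ψ w ≠ 0 := by
    by_contra h; push Not at h; exact hψ (LinearMap.ext h)
  obtain ⟨w, hw, hw'⟩ : ∃ w, φ w ≠ 0 ∧ μ w ≠ 0 := by
    by_cases h1 : μ x ≠ 0
    · exact ⟨x, hx, h1⟩
    by_cases h2 : φ y ≠ 0
    · exact ⟨y, h2, hy⟩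
    push Not at h1 h2
    exact ⟨x + y, by simp [h2, hx], by simp [h1, hy]⟩
  by_cases h : ψ w ≠ 0
  · exact ⟨w, hw, hw', h⟩
  push Not at h
  have hp : ψ (w + w₃) ≠ 0 := by simp [h, hw₃]
  have hm : ψ (w - w₃) ≠ 0 := by simp [h, hw₃]
  by_cases ha : φ (w + w₃) ≠ 0 ∧ μ (w + w₃) ≠ 0
  · exact ⟨_, ha.1, ha.2, hp⟩
  by_cases hb : φ (w - w₃) ≠ 0 ∧ μ (w - w₃) ≠ 0
  · exact ⟨_, hb.1, hb.2, hm⟩
  refine ⟨w₃, fun h3 => ?_, fun h3 => ?_, hw₃⟩
  · simp [h3, hw] at ha hb
    have : (2 : k) * μ w = 0 := by linear_combination ha + hb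
    exact hw' ((mul_eq_zero.mp this).resolve_left h2)
  · simp [h3, hw'] at ha hb
    have : (2 : k) * φ w = 0 := by linear_combination ha + hb
    exact hw ((mul_eq_zero.mp this).resolve_left h2)

end Cfsg.Lib.McLaughlin
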